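import Cfsg.Agent.Lib.Involutions.TICount.Two
import Cfsg.Agent.Lib.Perm.Fpf.Main
import Cfsg.Agent.Lib.Forms.DicksonShapes

/-!
# The conjugates of `z` as lines: an elementary abelian normal subgroup
-/

set_option autoImplicit false

namespace Cfsg.Agent.Involutions.TICount

open Involutions.Basic MulAction

variable {G : Type*} [Group G] {M : Subgroup G} {z : G}

namespace Setup

variable (hS : Setup M z) [Finite G] (hc : Nat.card ↥(CN M z) = 2)
include hS hc

theorem conj_facts {w : G} (hw : IsConj z w) : w * w = 1 ∧ w ≠ 1 := by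
  obtain ⟨g, hg⟩ := isConj_iff.1 hw
  exact orderOf_two_iff.1 (by rw [← hg, orderOf_conj, hS.ord])

/-- in the affine case two conjugates of `z` commute or have a common fixed point -/
theorem dichotomy {k : ℕ}
    (hfix : Nat.card {y : G ⧸ NN M // z • y = y} = k + 1)
    (hcls : Nat.card {w : G // IsConj z w} = Nat.card M * (k + 1))
    (ha : Nat.card {w : G // IsConj z w ∧ w ∈ VV z} = k + 1) (hq : Nat.card M = k + 2)
    {w : G} (hw : IsConj z w) :
    w ∈ VV z ∨ ∃ g : G, g⁻¹ * z * g ∈ NN M ∧ g⁻¹ * w * g ∈ NN M := by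
  classical
  haveI := Fintype.ofFinite M
  have hrep : ∀ y : {y : G ⧸ NN M // z • y = y}, ∃ v ∈ VV z, (v : G ⧸ NN M) = y := by
    rintro ⟨y, hy⟩
    induction y using QuotientGroup.induction_on with
    | _ g => exact (hS.fix_iff hc).1 (smul_fix_iff.1 hy)
  choose rep hrepV hrep using hrep
  let f : {y : G ⧸ NN M // z • y = y} × {a : M // a ≠ 1} → {w : G // IsConj z w} := fun p =>
    ⟨rep p.1 * ((p.2.1 : G) * p.2.1 * z) * (rep p.1)⁻¹, by
      rw [← hS.conj_z p.2.1.2]
      exact isConj_iff.2 ⟨rep p.1 * (p.2.1 : G), by group⟩⟩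
  have hfz : ∀ y, (rep y)⁻¹ * z * rep y = z := fun y => by
    rw [mul_assoc, ← mem_VV.1 (hrepV y), inv_mul_cancel_left]
  have hne : ∀ p, (f p : G) ≠ z := by
    intro p e
    have e'' : (rep p.1)⁻¹ * (f p : G) * rep p.1 = z := by rw [e]; exact hfz p.1
    have e' : (p.2.1 : G) * p.2.1 * z = z := by
      refine Eq.trans ?_ e''
      show _ = (rep p.1)⁻¹ * (rep p.1 * ((p.2.1 : G) * p.2.1 * z) * (rep p.1)⁻¹) * rep p.1
      group
    exact p.2.2 (Subtype.ext (hS.sq_eq_one_mem p.2.1.2 (mul_eq_right.1 e')))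
  have hfixf : ∀ p, (rep p.1)⁻¹ * (f p : G) * rep p.1 ∈ NN M := by
    intro p
    rw [show (rep p.1)⁻¹ * (f p : G) * rep p.1 = (p.2.1 : G) * p.2.1 * z by
      show (rep p.1)⁻¹ * (rep p.1 * ((p.2.1 : G) * p.2.1 * z) * (rep p.1)⁻¹) * rep p.1 = _
      group]
    exact mul_mem (le_N (mul_mem p.2.1.2 p.2.1.2)) hS.zN
  have hzfix : ∀ y, (rep y)⁻¹ * z * rep y ∈ NN M := fun y => by rw [hfz]; exact hS.zN
  have hnot : ∀ p, (f p : G) ∉ VV z := fun p hV =>
    hne p (hS.eq_of_fix hc (f p).2 (IsConj.refl z) (mem_VV.1 hV) (hfixf p) (hzfix p.1))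
  let Φ : {w : G // IsConj z w ∧ w ∈ VV z} ⊕ ({y : G ⧸ NN M // z • y = y} × {a : M // a ≠ 1}) →
      {w : G // IsConj z w} := fun s => Sum.elim (fun v => ⟨v.1, v.2.1⟩) f s
  have hinj : Function.Injective Φ := by
    rintro (v | p) (v' | r) e
    · simp only [Φ, Sum.elim_inl, Subtype.mk.injEq] at e
      exact congrArg Sum.inl (Subtype.ext e)
    · exact absurd (by
        have e' : (v : G) = (f r : G) := congrArg Subtype.val e
        rw [← e']; exact v.2.2) (hnot r)
    · exact absurd (by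
        have e' : (f p : G) = (v' : G) := congrArg Subtype.val e
        rw [e']; exact v'.2.2) (hnot p)
    · have e' : f p = f r := e
      have hp : p.1 = r.1 := by
        by_contra hpr
        refine hne p (hS.eq_of_fix_two hc (fun e2 => hpr (Subtype.ext ?_)) (f p).2 (IsConj.refl z)
          (hfixf p) (hzfix p.1) (by rw [e']; exact hfixf r) (hzfix r.1))
        rw [← hrep p.1, ← hrep r.1]; exact e2
      obtain ⟨y, a⟩ := p
      obtain ⟨y', b⟩ := r
      subst hp
      have e3 : (a.1 : G) * a.1 * z = (b.1 : G) * b.1 * z :=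
        mul_left_cancel (mul_right_cancel (congrArg Subtype.val e'))
      have e4 : (a.1 : G) * a.1 = b.1 * b.1 := mul_right_cancel e3
      refine congrArg Sum.inr (Prod.ext rfl (Subtype.ext (Subtype.ext ?_)))
      refine mul_inv_eq_one.1 (hS.sq_eq_one_mem (mul_mem a.1.2 (inv_mem b.1.2)) ?_)
      calc (a.1 : G) * (b.1 : G)⁻¹ * ((a.1 : G) * (b.1 : G)⁻¹)
          = (a.1 : G) * ((b.1 : G)⁻¹ * a.1) * (b.1 : G)⁻¹ := by group
        _ = (a.1 : G) * ((a.1 : G) * (b.1 : G)⁻¹) * (b.1 : G)⁻¹ := by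
          rw [hS.comm (inv_mem b.1.2) a.1.2]
        _ = ((a.1 : G) * a.1) * ((b.1 : G) * b.1)⁻¹ := by group
        _ = 1 := by rw [e4, mul_inv_cancel]
  have hA : Nat.card {a : M // a ≠ 1} = k + 1 := by
    rw [Nat.card_eq_fintype_card, Fintype.card_subtype_compl, Fintype.card_subtype_eq,
      ← Nat.card_eq_fintype_card, hq]
    omega
  obtain ⟨s, hs⟩ := (Function.Injective.bijective_of_nat_card_le hinj (by
    rw [hcls, Nat.card_sum, Nat.card_prod, ha, hfix, hA, hq]
    exact le_of_eq (by ring))).2 ⟨w, hw⟩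
  have hs' : (Φ s : G) = w := congrArg Subtype.val hs
  rcases s with v | p
  · left; rw [← hs']; exact v.2.2
  · right
    exact ⟨rep p.1, hzfix p.1, by rw [← hs']; exact hfixf p⟩

theorem case_affine {k d : ℕ} (hd : 1 ≤ d) (hkd : k + 1 = 2 ^ d)
    (hU : Nat.card {v : G // v * z = z * v ∧ v ∉ NN M} = 2 * k)
    (hI : Nat.card {g : G // orderOf g = 2} = Nat.card M * (2 * k + 1))
    (hG : Nat.card G = 2 * Nat.card M * (Nat.card {w : G // IsConj z w ∧ w ∈ VV z} * (k + 1)))
    (hcls : Nat.card {w : G // IsConj z w} = Nat.card M * Nat.card {w : G // IsConj z w ∧ w ∈ VV z})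
    (ha : Nat.card {w : G // IsConj z w ∧ w ∈ VV z} = k + 1) (hq : Nat.card M = k + 2) :
    ∃ (d : ℕ) (E : Subgroup G), 1 ≤ d ∧ E.Normal ∧ Cfsg.IsElementaryAbelian 2 E ∧
      Nat.card E = 2 ^ (2 * d) ∧ E ⊓ Subgroup.normalizer (M : Set G) = ⊥ ∧
      E ⊔ Subgroup.normalizer (M : Set G) = ⊤ ∧
      Nonempty (↥(Subgroup.normalizer (M : Set G)) ≃* DihedralGroup (2 ^ d + 1)) := by
  classical
  haveI : Fact (Nat.Prime 2) := ⟨Nat.prime_two⟩
  rw [ha] at hG hcls
  have hV : Nat.card ↥(VV z) = 2 * (k + 1) := by rw [hS.V_card hc, hU]; ring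
  have hfix : Nat.card {y : G ⧸ NN M // z • y = y} = k + 1 := by
    have := hS.card_fix hc; omega
  set S := Subgroup.normalizer ((VV z : Subgroup G) : Set G) with hSdef
  -- the other involutions move every conjugate of `z` to a commuting one
  have hmove : ∀ t : G, orderOf t = 2 → ¬ IsConj z t → t * z * t ∈ VV z := by
    intro t ht hnc
    obtain ⟨ht2, ht1⟩ := orderOf_two_iff.1 ht
    have hti : t⁻¹ = t := inv_eq_of_mul_eq_one_right ht2
    have hw : IsConj z (t * z * t) := isConj_iff.2 ⟨t, by rw [hti]⟩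
    by_cases htz : t * z * t = z
    · rw [htz]; exact mem_VV.2 rfl
    refine (hS.dichotomy hc hfix hcls ha hq hw).resolve_right ?_
    rintro ⟨g, hz1, hz2⟩
    have hne : (g : G ⧸ NN M) ≠ ((t * g : G) : G ⧸ NN M) := by
      intro e
      have hN : g⁻¹ * t * g ∈ NN M := by
        rw [show g⁻¹ * t * g = g⁻¹ * (t * g) by group]; exact QuotientGroup.eq.1 e
      obtain ⟨m, hm, e'⟩ := hS.invol_N hN
        (by calc g⁻¹ * t * g * (g⁻¹ * t * g) = g⁻¹ * (t * t) * g := by group
              _ = 1 := by rw [ht2]; group)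
        (fun e => ht1 (conj_eq_one_iff.1 (show g⁻¹ * t * g⁻¹⁻¹ = 1 by rw [inv_inv]; exact e)))
      obtain ⟨a, hma, ha2⟩ := hS.exists_sqrt hm
      rw [← ha2, ← hS.conj_z hma] at e'
      exact hnc (isConj_iff.2 ⟨g * a, by
        calc g * a * z * (g * a)⁻¹ = g * (a * z * a⁻¹) * g⁻¹ := by group
          _ = g * (g⁻¹ * t * g) * g⁻¹ := by rw [e']
          _ = t := by group⟩)
    have h1 : (t * g)⁻¹ * z * (t * g) ∈ NN M := by
      rw [mul_inv_rev, hti, show g⁻¹ * t * z * (t * g) = g⁻¹ * (t * z * t) * g by group]; exact hz2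
    have h2 : (t * g)⁻¹ * (t * z * t) * (t * g) ∈ NN M := by
      have e2 : (t * g)⁻¹ * (t * z * t) * (t * g) = g⁻¹ * z * g := by
        calc (t * g)⁻¹ * (t * z * t) * (t * g) = g⁻¹ * (t⁻¹ * t) * z * (t * t) * g := by group
          _ = g⁻¹ * z * g := by rw [inv_mul_cancel, ht2]; group
      rw [e2]; exact hz1
    exact htz (hS.eq_of_fix_two hc hne (IsConj.refl z) hw hz1 hz2 h1 h2).symm
  -- the normal subgroup
  have hVzS : ∀ t : G, orderOf t = 2 → ¬ IsConj z t → t ∈ S := by
    intro t ht hnc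
    obtain ⟨ht2, ht1⟩ := orderOf_two_iff.1 ht
    have hti : t⁻¹ = t := inv_eq_of_mul_eq_one_right ht2
    have hcV := hS.cent_conj hc (isConj_iff.2 ⟨t, by rw [hti]⟩) (hmove t ht hnc)
    refine Subgroup.mem_normalizer_iff.2 fun x => ?_
    constructor
    · intro hx
      rw [← hcV, mem_VV, hti]
      calc t * x * t * (t * z * t) = t * x * (t * t) * z * t := by group
        _ = t * (x * z) * t := by rw [ht2]; group
        _ = t * (z * x) * t := by rw [mem_VV.1 hx]
        _ = t * z * (t * t) * x * t := by rw [ht2]; group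
        _ = t * z * t * (t * x * t) := by group
    · intro hx
      rw [← hcV, mem_VV, hti] at hx
      rw [mem_VV]
      calc x * z = (t * t) * x * (t * t) * z * (t * t) := by rw [ht2]; group
        _ = t * (t * x * t * (t * z * t)) * t := by group
        _ = t * (t * z * t * (t * x * t)) * t := by rw [hx]
        _ = (t * t) * z * (t * t) * x * (t * t) := by group
        _ = z * x := by rw [ht2]; group
  set E := S.normalCore with hEdef
  have hEn : E.Normal := Subgroup.normalCore_normal S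
  have hE0 : ∀ t : G, orderOf t = 2 → ¬ IsConj z t → t ∈ E := fun t ht hnc b =>
    hVzS _ (by rw [orderOf_conj, ht]) fun h => hnc (h.trans (isConj_iff.2 ⟨b⁻¹, by group⟩))
  have hEM : ∀ x ∈ E, x ∈ M → x = 1 := by
    intro x hx hxM
    have hxS : x ∈ S := Subgroup.normalCore_le S hx
    have h1 := (Subgroup.mem_normalizer_iff.1 hxS z).1 (mem_VV.2 rfl)
    rw [hS.conj_z hxM, mem_VV] at h1
    refine hS.sq_eq_one_mem hxM (hS.M_inf_C (mul_mem hxM hxM) ?_)
    calc x * x * z = x * x * z * z * z⁻¹ := by group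
      _ = z * (x * x * z) * z⁻¹ := by rw [h1]
      _ = z * (x * x) := by group
  have hEN : ∀ x ∈ E, x ∈ NN M → x = 1 := by
    intro x hx hxN
    refine hEM x hx (hS.eq_one_of_central hxN fun m hm => ?_)
    have h1 : x * m * x⁻¹ * m⁻¹ ∈ E := by
      rw [show x * m * x⁻¹ * m⁻¹ = x * (m * x⁻¹ * m⁻¹) by group]
      exact E.mul_mem hx (hEn.conj_mem _ (E.inv_mem hx) m)
    have h2 : x * m * x⁻¹ * m⁻¹ ∈ M := M.mul_mem (conj_mem hxN hm) (M.inv_mem hm)
    have := hEM _ h1 h2
    rwa [mul_inv_eq_one, mul_inv_eq_iff_eq_mul] at this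
  let Ψ : E × ↥(NN M) → G := fun p => (p.1 : G) * p.2
  have hΨ : Function.Injective Ψ := by
    rintro ⟨a, n⟩ ⟨b, n'⟩ e
    have e' : (a : G) * n = (b : G) * n' := e
    have e1 : (b : G)⁻¹ * a = (n' : G) * (n : G)⁻¹ := by
      calc (b : G)⁻¹ * a = (b : G)⁻¹ * ((a : G) * n) * (n : G)⁻¹ := by group
        _ = _ := by rw [e']; group
    have h1 := hEN _ (E.mul_mem (E.inv_mem b.2) a.2)
      (by rw [e1]; exact (NN M).mul_mem n'.2 ((NN M).inv_mem n.2))
    have hab : (b : G) = a := inv_mul_eq_one.1 h1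
    rw [hab] at e'
    exact Prod.ext (Subtype.ext hab.symm) (Subtype.ext (mul_left_cancel e'))
  have hNcard : Nat.card ↥(NN M) = 2 * Nat.card M := by rw [hS.card_N, hc]; ring
  have hEle : Nat.card E ≤ (k + 1) * (k + 1) := by
    have h := Nat.card_le_card_of_injective Ψ hΨ
    rw [Nat.card_prod, hNcard, hG, mul_comm] at h
    exact Nat.le_of_mul_le_mul_left h (Nat.mul_pos two_pos Nat.card_pos)
  let Θ : {t : G // orderOf t = 2 ∧ ¬ IsConj z t} ⊕ PUnit.{1} → E := fun s =>
    Sum.elim (fun t : {t : G // orderOf t = 2 ∧ ¬ IsConj z t} => (⟨t, hE0 t t.2.1 t.2.2⟩ : E))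
      (fun _ => 1) s
  have hΘ : Function.Injective Θ := by
    rintro (a | _) (b | _) e <;> simp only [Θ, Sum.elim_inl, Sum.elim_inr] at e
    · exact congrArg Sum.inl (Subtype.ext (congrArg Subtype.val e :))
    · exfalso
      have e' : (a : G) = 1 := congrArg Subtype.val e
      exact ne_one a.2.1 e'
    · exfalso
      have e' : (b : G) = 1 := (congrArg Subtype.val e).symm
      exact ne_one b.2.1 e'
    · rfl
  have hE0card : Nat.card {t : G // orderOf t = 2 ∧ ¬ IsConj z t} + Nat.card M * (k + 1) =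
      Nat.card M * (2 * k + 1) := by
    rw [← hI, ← hcls, ← Nat.card_sum]
    refine Nat.card_congr (Equiv.ofBijective
      (fun s : {t : G // orderOf t = 2 ∧ ¬ IsConj z t} ⊕ {w : G // IsConj z w} => Sum.elim
        (fun t : {t : G // orderOf t = 2 ∧ ¬ IsConj z t} =>
          (⟨t, t.2.1⟩ : {g : G // orderOf g = 2}))
        (fun w : {w : G // IsConj z w} => ⟨w, orderOf_two_iff.2 (hS.conj_facts hc w.2)⟩) s) ⟨?_, ?_⟩)
    · rintro (a | a) (b | b) e <;> simp only [Sum.elim_inl, Sum.elim_inr, Subtype.mk.injEq] at e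
      · exact congrArg Sum.inl (Subtype.ext e)
      · exact absurd (by rw [e]; exact b.2) a.2.2
      · exact absurd (by rw [← e]; exact a.2) b.2.2
      · exact congrArg Sum.inr (Subtype.ext e)
    · rintro ⟨t, ht⟩
      by_cases h : IsConj z t
      · exact ⟨Sum.inr ⟨t, h⟩, rfl⟩
      · exact ⟨Sum.inl ⟨t, ht, h⟩, rfl⟩
  have hEcard : (k + 1) * (k + 1) =
      Nat.card ({t : G // orderOf t = 2 ∧ ¬ IsConj z t} ⊕ PUnit.{1}) := by
    rw [Nat.card_sum, Nat.card_unique (α := PUnit.{1})]
    rw [hq] at hE0card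
    have e1 : (k + 2) * (2 * k + 1) = (k + 2) * (k + 1) + (k + 2) * k := by ring
    have e2 : (k + 1) * (k + 1) = (k + 2) * k + 1 := by ring
    omega
  have hΘb : Function.Bijective Θ :=
    Function.Injective.bijective_of_nat_card_le hΘ (by rw [← hEcard]; exact hEle)
  have hEsq : ∀ x ∈ E, x * x = 1 := by
    intro x hx
    obtain ⟨s, hs⟩ := hΘb.2 ⟨x, hx⟩
    have hs' : (Θ s : G) = x := congrArg Subtype.val hs
    rcases s with t | _
    · rw [← hs']; exact inv_sq_one t.2.1
    · rw [← hs']; exact one_mul 1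
  have hEcomm : ∀ a ∈ E, ∀ b ∈ E, a * b = b * a := by
    intro a ha b hb
    calc a * b = (a * b)⁻¹ := (inv_eq_of_mul_eq_one_right (hEsq _ (E.mul_mem ha hb))).symm
      _ = b⁻¹ * a⁻¹ := mul_inv_rev a b
      _ = b * a := by rw [inv_eq_of_mul_eq_one_right (hEsq a ha),
          inv_eq_of_mul_eq_one_right (hEsq b hb)]
  have hEc : Nat.card E = (k + 1) * (k + 1) := by
    rw [hEcard, Nat.card_congr (Equiv.ofBijective Θ hΘb)]
  refine ⟨d, E, hd, hEn, ⟨⟨⟨fun a b => Subtype.ext (hEcomm a a.2 b b.2)⟩⟩,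
    fun a ha => by rw [pow_two]; exact hEsq a ha⟩, by rw [hEc, hkd, ← pow_add, two_mul], ?_, ?_, ?_⟩
  · exact (Subgroup.eq_bot_iff_forall _).2 fun x hx => hEN x hx.1 hx.2
  · rw [eq_top_iff]
    intro g _
    have hb : Function.Bijective Ψ := Function.Injective.bijective_of_nat_card_le hΨ (by
      rw [Nat.card_prod, hEc, hNcard, hG]; exact le_of_eq (by ring))
    obtain ⟨⟨e, n⟩, rfl⟩ := hb.2 g
    exact Subgroup.mul_mem_sup e.2 n.2
  · -- `M` is cyclic: it acts without fixed points on `E`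
    letI : CommGroup E :=
      { (inferInstance : Group E) with mul_comm := fun a b => Subtype.ext (hEcomm a a.2 b b.2) }
    haveI : Nontrivial (Additive E) := Finite.one_lt_card_iff_nontrivial.1 (by
      rw [show Nat.card (Additive E) = Nat.card E from Nat.card_congr Additive.toMul, hEc]
      have : 2 ≤ k + 1 := by
        rw [hkd]; exact Nat.le_self_pow (by omega) 2
      exact lt_of_lt_of_le Nat.one_lt_two (le_trans this (Nat.le_mul_self _)))
    letI : Module (ZMod 2) (Additive E) := AddCommGroup.zmodModule (n := 2) fun x => by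
      refine Additive.toMul.injective (Subtype.ext ?_)
      rw [two_nsmul, toMul_add, toMul_zero, Subgroup.coe_mul, Subgroup.coe_one]
      exact hEsq _ (Additive.toMul x).2
    let ρ : M →* Module.End (ZMod 2) (Additive E) :=
      { toFun := fun m => AddMonoidHom.toZModLinearMap 2
          (MonoidHom.toAdditive
            { toFun := fun e : E => (⟨(m : G) * e * (m : G)⁻¹, hEn.conj_mem _ e.2 m⟩ : E)
              map_one' := Subtype.ext (show (m : G) * 1 * (m : G)⁻¹ = 1 by group)
              map_mul' := fun a b => Subtype.ext (show (m : G) * ((a : G) * b) * (m : G)⁻¹ =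
                (m : G) * a * (m : G)⁻¹ * ((m : G) * b * (m : G)⁻¹) by group) })
        map_one' := LinearMap.ext fun x => Additive.toMul.injective (Subtype.ext
          (show (1 : G) * (Additive.toMul x : E) * (1 : G)⁻¹ = (Additive.toMul x : E) by group))
        map_mul' := fun m n => LinearMap.ext fun x => Additive.toMul.injective (Subtype.ext
          (show ((m : G) * n) * (Additive.toMul x : E) * ((m : G) * n)⁻¹ =
            (m : G) * ((n : G) * (Additive.toMul x : E) * (n : G)⁻¹) * (m : G)⁻¹ by group)) }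
    have hfixρ : ∀ m v, ρ m v = v → v ≠ 0 → m = 1 := by
      intro m v hv hv0
      by_contra hm
      refine hv0 (Additive.toMul.injective (Subtype.ext ?_))
      have e : (m : G) * (Additive.toMul v : E) * (m : G)⁻¹ = (Additive.toMul v : E) :=
        congrArg (fun y => ((Additive.toMul y : E) : G)) hv
      exact hS.no_invol m.2 (fun h => hm (Subtype.ext h)) (hEsq _ (Additive.toMul v).2)
        (mul_inv_eq_iff_eq_mul.1 e).symm
    have htop := Perm.Fpf.isCyclic_of_abelian ρ hfixρ ⊤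
      ⟨⟨fun a b => Subtype.ext (Subtype.ext (hS.comm a.1.2 b.1.2))⟩⟩
    haveI hMcyc : IsCyclic M :=
      isCyclic_of_surjective (Subgroup.topEquiv : (⊤ : Subgroup M) ≃* M).toMonoidHom
        (Subgroup.topEquiv : (⊤ : Subgroup M) ≃* M).surjective
    have hZc : Nat.card (M.subgroupOf (NN M)) = Nat.card M :=
      Nat.card_congr (Subgroup.subgroupOfEquivOfLe le_N).toEquiv
    have hidx : (M.subgroupOf (NN M)).index = 2 := by
      have h := (M.subgroupOf (NN M)).index_mul_card
      rw [hZc, hNcard] at h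
      exact Nat.eq_of_mul_eq_mul_right Nat.card_pos h
    obtain ⟨c, -, hco, hD⟩ := Forms.DicksonShapes.dihedral_of (M.subgroupOf (NN M)) hidx
      (isCyclic_of_surjective (Subgroup.subgroupOfEquivOfLe le_N).symm.toMonoidHom
        (Subgroup.subgroupOfEquivOfLe le_N).symm.surjective) (by
      intro y hy
      obtain ⟨m, hm, h, hh, e⟩ := hS.N_decomp y.2
      rcases hS.mem_C_cases hc hh with rfl | rfl
      · exact absurd (show (y : G) ∈ M by rw [e, mul_one]; exact hm) hy
      · refine Subtype.ext ?_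
        rw [Subgroup.coe_mul, Subgroup.coe_one, e]
        exact hS.az_sq hm)
    rw [hco, hZc, hq] at hD
    rw [← show k + 2 = 2 ^ d + 1 by omega]
    exact hD

end Setup

end Cfsg.Agent.Involutions.TICount
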