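import Mathlib
import Cfsg.Agent.Lib.Involutions.Basic

/-!
# A TI subgroup and more involutions than cosets

`M` is TI, `N = N(M) = M C` with `C = C_N(z)`, the non-trivial elements of `M` have centralizers
of odd order and there are more involutions than cosets of `M`.  Then each coset of `M` outside
`N` contains exactly one involution, and everything follows by counting.
-/

set_option autoImplicit false

namespace Cfsg.Agent.Involutions.TICount

open Involutions.Basic

variable {G : Type*} [Group G]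

/-- a free action has orbits of full size -/
theorem card_dvd_of_free {H X : Type*} [Group H] [MulAction H X] [Finite X]
    (hfree : ∀ (h : H) (x : X), h • x = x → h = 1) : Nat.card H ∣ Nat.card X := by
  have hs : ∀ x : X, MulAction.stabilizer H x = ⊥ := fun x =>
    (Subgroup.eq_bot_iff_forall _).2 fun h hh => hfree h x hh
  haveI : ∀ ω : MulAction.orbitRel.Quotient H X,
      Finite (MulAction.orbit H (Quotient.out ω)) := fun _ => Subtype.finite
  haveI : Finite (MulAction.orbitRel.Quotient H X) := Quotient.finite _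
  haveI := Fintype.ofFinite (MulAction.orbitRel.Quotient H X)
  rw [Nat.card_congr (MulAction.selfEquivSigmaOrbits H X), Nat.card_sigma]
  refine Finset.dvd_sum fun ω _ => dvd_of_eq ?_
  rw [Nat.card_coe_set_eq, ← MulAction.index_stabilizer, hs, Subgroup.index_bot]

/-- the class of an element -/
theorem card_class_mul (z : G) :
    Nat.card {w : G // IsConj z w} * Nat.card (Subgroup.centralizer ({z} : Set G)) = Nat.card G := by
  rw [← (Subgroup.centralizer ({z} : Set G)).index_mul_card, Subgroup.index]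
  congr 1
  refine (Nat.card_congr (Equiv.ofBijective
    (Quotient.lift (fun g : G => (⟨g * z * g⁻¹, isConj_iff.2 ⟨g, rfl⟩⟩ : {w : G // IsConj z w}))
      ?_) ⟨?_, ?_⟩)).symm
  · intro a b hab
    rw [← Quotient.eq_iff_equiv, Quotient.eq, QuotientGroup.leftRel_apply,
      Subgroup.mem_centralizer_singleton_iff] at hab
    refine Subtype.ext ?_
    show a * z * a⁻¹ = b * z * b⁻¹
    calc a * z * a⁻¹ = a * (z * (a⁻¹ * b)) * b⁻¹ := by group
      _ = a * (a⁻¹ * b * z) * b⁻¹ := by rw [hab]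
      _ = b * z * b⁻¹ := by group
  · intro x y
    induction x using Quotient.inductionOn with
    | _ a =>
    induction y using Quotient.inductionOn with
    | _ b =>
    intro e
    have e' : a * z * a⁻¹ = b * z * b⁻¹ := congrArg Subtype.val e
    refine Quotient.sound ?_
    rw [← Quotient.eq_iff_equiv, Quotient.eq, QuotientGroup.leftRel_apply,
      Subgroup.mem_centralizer_singleton_iff]
    calc a⁻¹ * b * z = a⁻¹ * (b * z * b⁻¹) * b := by group
      _ = a⁻¹ * (a * z * a⁻¹) * b := by rw [e']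
      _ = z * (a⁻¹ * b) := by group
  · rintro ⟨w, hw⟩
    obtain ⟨g, rfl⟩ := isConj_iff.1 hw
    exact ⟨Quotient.mk _ g, rfl⟩

/-- the hypotheses -/
structure Setup (M : Subgroup G) (z : G) : Prop where
  ne : M ≠ ⊥
  ti : ∀ g x : G, x ∈ M → x ≠ 1 → g * x * g⁻¹ ∈ M → g ∈ Subgroup.normalizer (M : Set G)
  ord : orderOf z = 2
  zN : z ∈ Subgroup.normalizer (M : Set G)
  fac : M ⊔ (Subgroup.normalizer (M : Set G) ⊓ Subgroup.centralizer ({z} : Set G)) =
    Subgroup.normalizer (M : Set G)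
  odd_cent : ∀ x ∈ M, x ≠ 1 → Odd (Nat.card ↥(Subgroup.centralizer ({x} : Set G)))
  notNormal : ¬ M.Normal
  many : M.index < Nat.card {g : G // orderOf g = 2}

variable {M : Subgroup G} {z : G}

/-- the normalizer -/
abbrev NN (M : Subgroup G) : Subgroup G := Subgroup.normalizer (M : Set G)

/-- the centralizer of `z` in the normalizer -/
abbrev CN (M : Subgroup G) (z : G) : Subgroup G :=
  Subgroup.normalizer (M : Set G) ⊓ Subgroup.centralizer ({z} : Set G)

namespace Setup

theorem le_N : M ≤ NN M := Subgroup.le_normalizer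

theorem mem_C_iff {h : G} : h ∈ CN M z ↔ h ∈ NN M ∧ h * z = z * h := by
  rw [Subgroup.mem_inf, Subgroup.mem_centralizer_singleton_iff]

theorem conj_mem {g x : G} (hg : g ∈ NN M) (hx : x ∈ M) : g * x * g⁻¹ ∈ M :=
  (Subgroup.mem_normalizer_iff.1 hg x).1 hx

variable (hS : Setup M z)
include hS

theorem zz : z * z = 1 := inv_sq_one hS.ord

theorem z_inv : z⁻¹ = z := inv_eq hS.ord

theorem z_mem_C : z ∈ CN M z := mem_C_iff.2 ⟨hS.zN, rfl⟩

theorem no_invol {x t : G} (hx : x ∈ M) (hx1 : x ≠ 1) (ht : t * t = 1) (hc : t * x = x * t) :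
    t = 1 := by
  by_contra ht1
  have h : t ∈ Subgroup.centralizer ({x} : Set G) := Subgroup.mem_centralizer_singleton_iff.2 hc
  have hd := Subgroup.orderOf_dvd_natCard _ h
  rw [orderOf_two_iff.2 ⟨ht, ht1⟩] at hd
  exact (hS.odd_cent x hx hx1).not_two_dvd_nat hd

theorem sq_eq_one_mem {x : G} (hx : x ∈ M) (h : x * x = 1) : x = 1 := by
  by_contra h1
  exact h1 (hS.no_invol hx h1 h rfl)

theorem exists_ne : ∃ x ∈ M, x ≠ 1 := by
  by_contra! h
  exact hS.ne ((Subgroup.eq_bot_iff_forall _).2 h)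

variable [Finite G]

theorem odd_M : Odd (Nat.card M) := by
  by_contra h
  haveI : Fact (Nat.Prime 2) := ⟨Nat.prime_two⟩
  obtain ⟨x, hx⟩ := exists_prime_orderOf_dvd_card' 2 (Nat.not_odd_iff_even.1 h).two_dvd
  have hx' : orderOf (x : G) = 2 := by rw [Subgroup.orderOf_coe, hx]
  exact ne_one hx' (hS.sq_eq_one_mem x.2 (inv_sq_one hx'))

theorem exists_sqrt {x : G} (hx : x ∈ M) : ∃ a ∈ M, a * a = x := by
  obtain ⟨j, hj⟩ := hS.odd_M
  refine ⟨x ^ (j + 1), pow_mem hx _, ?_⟩
  rw [← pow_add, show j + 1 + (j + 1) = Nat.card M + 1 from by omega, pow_succ]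
  have := congrArg Subtype.val (pow_card_eq_one' (x := (⟨x, hx⟩ : M)))
  rw [Subgroup.coe_pow, Subgroup.coe_one] at this
  rw [this, one_mul]

theorem invert {t x : G} (ht : t * t = 1) (ht1 : t ≠ 1) (htN : t ∈ NN M) (hx : x ∈ M) :
    t * x * t = x⁻¹ := by
  have hti : t⁻¹ = t := inv_eq_of_mul_eq_one_right ht
  let φ : M → M := fun y => ⟨(y : G)⁻¹ * (t * y * t⁻¹), mul_mem (inv_mem y.2) (conj_mem htN y.2)⟩
  have hinj : Function.Injective φ := by
    intro a b e
    have e' : (a : G)⁻¹ * (t * a * t⁻¹) = (b : G)⁻¹ * (t * b * t⁻¹) := congrArg Subtype.val e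
    have hc : t * ((b : G) * (a : G)⁻¹) = ((b : G) * (a : G)⁻¹) * t := by
      calc t * ((b : G) * (a : G)⁻¹)
          = b * ((b : G)⁻¹ * (t * b * t⁻¹)) * (t * (a : G)⁻¹ * t⁻¹) * t := by group
        _ = b * ((a : G)⁻¹ * (t * a * t⁻¹)) * (t * (a : G)⁻¹ * t⁻¹) * t := by rw [e']
        _ = _ := by group
    by_contra hab
    refine ht1 (hS.no_invol (mul_mem b.2 (inv_mem a.2)) (fun h => hab ?_) ht hc)
    exact Subtype.ext (mul_inv_eq_one.1 h).symm
  obtain ⟨y, hy⟩ := Finite.surjective_of_injective hinj ⟨x, hx⟩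
  have hy' : (y : G)⁻¹ * (t * y * t⁻¹) = x := congrArg Subtype.val hy
  rw [← hy', hti]
  calc t * ((y : G)⁻¹ * (t * y * t)) * t = t * (y : G)⁻¹ * t * y * (t * t) := by group
    _ = t * (y : G)⁻¹ * t * y := by rw [ht, mul_one]
    _ = (t * y * t⁻¹)⁻¹ * y := by rw [mul_inv_rev, mul_inv_rev, inv_inv, hti]; group
    _ = _ := by rw [hti]; group

theorem z_invert {x : G} (hx : x ∈ M) : z * x * z = x⁻¹ :=
  hS.invert hS.zz (ne_one hS.ord) hS.zN hx

theorem comm {x y : G} (hx : x ∈ M) (hy : y ∈ M) : x * y = y * x := by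
  have h := hS.z_invert (mul_mem hx hy)
  have e : z * (x * y) * z = (z * x * z) * (z * y * z) := by
    calc z * (x * y) * z = z * x * 1 * y * z := by group
      _ = z * x * (z * z) * y * z := by rw [hS.zz]
      _ = _ := by group
  rw [e, hS.z_invert hx, hS.z_invert hy, ← mul_inv_rev] at h
  exact (inv_injective h).symm

theorem conj_z {a : G} (ha : a ∈ M) : a * z * a⁻¹ = a * a * z := by
  calc a * z * a⁻¹ = a * z * (z * a * z) := by rw [hS.z_invert ha]
    _ = a * (z * z) * a * z := by group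
    _ = a * a * z := by rw [hS.zz]; group

theorem M_inf_C {x : G} (hx : x ∈ M) (hc : x * z = z * x) : x = 1 := by
  by_contra h
  exact ne_one hS.ord (hS.no_invol hx h hS.zz hc.symm)

theorem N_decomp {g : G} (hg : g ∈ NN M) : ∃ m ∈ M, ∃ h ∈ CN M z, g = m * h := by
  have h1 : g ∈ CN M z ⊔ M := by rw [sup_comm, hS.fac]; exact hg
  have h2 : g ∈ ((CN M z ⊔ M : Subgroup G) : Set G) := h1
  rw [Subgroup.coe_mul_of_left_le_normalizer_right (CN M z) M inf_le_left] at h2
  obtain ⟨h, hh, m, hm, rfl⟩ := h2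
  exact ⟨h * m * h⁻¹, conj_mem (mem_C_iff.1 hh).1 hm, h, hh, by group⟩

theorem factor_unique {m m' h h' : G} (hm : m ∈ M) (hm' : m' ∈ M) (hh : h ∈ CN M z) (hh' : h' ∈ CN M z)
    (e : m * h = m' * h') : m = m' ∧ h = h' := by
  have e1 : m'⁻¹ * m = h' * h⁻¹ := by
    calc m'⁻¹ * m = m'⁻¹ * (m * h) * h⁻¹ := by group
      _ = _ := by rw [e]; group
  have hc := (mem_C_iff.1 (mul_mem hh' (inv_mem hh))).2
  have h1 := hS.M_inf_C (mul_mem (inv_mem hm') hm) (by rw [e1]; exact hc)
  have h2 : m = m' := (inv_mul_eq_one.1 h1).symm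
  exact ⟨h2, by rwa [h2, mul_right_inj] at e⟩

theorem C_sq_cases {h : G} (hh : h ∈ CN M z) (h2 : h * h = 1) : h = 1 ∨ h = z := by
  rcases eq_or_ne h 1 with h1 | h1
  · exact Or.inl h1
  right
  obtain ⟨x, hx, hx1⟩ := hS.exists_ne
  have hN := (mem_C_iff.1 hh).1
  have hc := (mem_C_iff.1 hh).2
  have e : h * z = 1 := by
    refine hS.no_invol hx hx1 ?_ ?_
    · calc h * z * (h * z) = h * (z * h) * z := by group
        _ = (h * h) * (z * z) := by rw [← hc]; group
        _ = 1 := by rw [h2, hS.zz, one_mul]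
    · calc h * z * x = h * (z * x * z) * z⁻¹ := by group
        _ = h * x⁻¹ * z := by rw [hS.z_invert hx, hS.z_inv]
        _ = h * x⁻¹ * h * (h⁻¹ * z) := by group
        _ = x * (h⁻¹ * z) := by rw [hS.invert h2 h1 hN (inv_mem hx), inv_inv]
        _ = x * (h * z) := by rw [inv_eq_of_mul_eq_one_right h2]
  rw [mul_eq_one_iff_eq_inv, hS.z_inv] at e
  exact e

theorem invol_N {t : G} (htN : t ∈ NN M) (ht : t * t = 1) (ht1 : t ≠ 1) : ∃ a ∈ M, t = a * z := by
  obtain ⟨m, hm, h, hh, rfl⟩ := hS.N_decomp htN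
  have hi := hS.invert ht ht1 htN (inv_mem hm)
  rw [inv_inv] at hi
  have e : h * h = 1 := by
    calc h * h = m⁻¹ * ((m * h) * m⁻¹ * (m * h)) := by group
      _ = _ := by rw [hi, inv_mul_cancel]
  rcases hS.C_sq_cases hh e with rfl | rfl
  · rw [mul_one] at ht ht1
    exact absurd (hS.sq_eq_one_mem hm ht) ht1
  · exact ⟨m, hm, rfl⟩

theorem az_sq {a : G} (ha : a ∈ M) : a * z * (a * z) = 1 := by
  calc a * z * (a * z) = a * (z * a * z) := by group
    _ = 1 := by rw [hS.z_invert ha, mul_inv_cancel]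

theorem az_ne {a : G} (ha : a ∈ M) : a * z ≠ 1 := by
  intro e
  have : z ∈ M := by
    rw [show z = a⁻¹ from eq_inv_of_mul_eq_one_right e]
    exact inv_mem ha
  exact ne_one hS.ord (hS.sq_eq_one_mem this hS.zz)

omit [Finite G] in
theorem mem_N_of_mul {g m : G} (hm : m ∈ M) (h : g * m ∈ NN M) : g ∈ NN M :=
  (Subgroup.mul_mem_cancel_right _ (le_N hm)).1 h

theorem cent_free {t x : G} (ht : t * t = 1) (hx : x ∈ M) (h : x * t = t * x) (ht1 : t ≠ 1) :
    x = 1 := by
  by_contra hx1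
  exact ht1 (hS.no_invol hx hx1 ht h.symm)

theorem coset_unique {g m m' : G} (hg : g ∉ NN M) (hm : m ∈ M) (hm' : m' ∈ M)
    (h : g * m * (g * m) = 1) (h' : g * m' * (g * m') = 1) : m = m' := by
  by_contra hne
  have e : g * m * (m⁻¹ * m') * (g * m)⁻¹ = (m⁻¹ * m')⁻¹ := by
    rw [inv_eq_of_mul_eq_one_right h]
    calc g * m * (m⁻¹ * m') * (g * m) = (g * m') * (g * m') * (g * m')⁻¹ * (g * m) := by group
      _ = _ := by rw [h']; group
  have h1 := hS.ti _ _ (mul_mem (inv_mem hm) hm') (fun e => hne (inv_mul_eq_one.1 e))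
    (by rw [e]; exact inv_mem (mul_mem (inv_mem hm) hm'))
  exact hg (hS.mem_N_of_mul hm h1)

/-- the basic count: `|N| = q c` -/
theorem card_N : Nat.card ↥(NN M) = Nat.card M * Nat.card ↥(CN M z) := by
  rw [← Nat.card_prod]
  refine (Nat.card_congr (Equiv.ofBijective
    (fun p : M × ↥(CN M z) => (⟨(p.1 : G) * p.2, mul_mem (le_N p.1.2) (mem_C_iff.1 p.2.2).1⟩ : ↥(NN M)))
    ⟨?_, ?_⟩)).symm
  · rintro ⟨a, h⟩ ⟨b, h'⟩ e
    obtain ⟨e1, e2⟩ := hS.factor_unique a.2 b.2 h.2 h'.2 (congrArg Subtype.val e)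
    exact Prod.ext (Subtype.ext e1) (Subtype.ext e2)
  · rintro ⟨g, hg⟩
    obtain ⟨m, hm, h, hh, rfl⟩ := hS.N_decomp hg
    exact ⟨(⟨m, hm⟩, ⟨h, hh⟩), rfl⟩

theorem card_invol : Nat.card {g : G // orderOf g = 2} =
    Nat.card M + Nat.card {t : G // t * t = 1 ∧ t ∉ NN M} := by
  classical
  rw [← Nat.card_sum]
  refine (Nat.card_congr (Equiv.ofBijective (fun s : M ⊕ {t : G // t * t = 1 ∧ t ∉ NN M} =>
    Sum.elim (fun a : M => (⟨(a : G) * z, orderOf_two_iff.2 ⟨hS.az_sq a.2, hS.az_ne a.2⟩⟩ :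
      {g : G // orderOf g = 2}))
      (fun t => ⟨t.1, orderOf_two_iff.2 ⟨t.2.1, fun e => t.2.2 (by rw [e]; exact one_mem _)⟩⟩) s) ⟨?_, ?_⟩)).symm
  · rintro (a | t) (b | t') e <;> simp only [Sum.elim_inl, Sum.elim_inr, Subtype.mk.injEq] at e
    · exact congrArg Sum.inl (Subtype.ext (mul_right_cancel e))
    · exact absurd (by rw [← e]; exact mul_mem (le_N a.2) hS.zN) t'.2.2
    · exact absurd (by rw [e]; exact mul_mem (le_N b.2) hS.zN) t.2.2
    · exact congrArg Sum.inr (Subtype.ext e)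
  · rintro ⟨t, ht⟩
    obtain ⟨h2, h1⟩ := orderOf_two_iff.1 ht
    by_cases htN : t ∈ NN M
    · obtain ⟨a, ha, rfl⟩ := hS.invol_N htN h2 h1
      exact ⟨Sum.inl ⟨a, ha⟩, rfl⟩
    · exact ⟨Sum.inr ⟨t, h2, htN⟩, rfl⟩

/-- every coset of `M` outside `N` contains an involution -/
theorem coset_exists_aux :
    Nat.card {g : G // g ∉ NN M} = Nat.card {t : G // t * t = 1 ∧ t ∉ NN M} * Nat.card M ∧
    ∀ g : G, g ∉ NN M → ∃ m ∈ M, g * m * (g * m) = 1 := by
  classical
  let Φ : {t : G // t * t = 1 ∧ t ∉ NN M} × M → {g : G // g ∉ NN M} :=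
    fun p => ⟨(p.1 : G) * p.2, fun h => p.1.2.2 (hS.mem_N_of_mul p.2.2 h)⟩
  have hinj : Function.Injective Φ := by
    rintro ⟨t, a⟩ ⟨t', b⟩ e
    have e' : (t : G) * a = (t' : G) * b := congrArg Subtype.val e
    have e1 : (t' : G) = (t : G) * ((a : G) * (b : G)⁻¹) := by
      rw [← mul_assoc, e', mul_inv_cancel_right]
    have h1 : (1 : G) = (a : G) * (b : G)⁻¹ := hS.coset_unique t.2.2 (one_mem M)
      (mul_mem a.2 (inv_mem b.2)) (by rw [mul_one]; exact t.2.1) (by rw [← e1]; exact t'.2.1)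
    rw [← h1, mul_one] at e1
    exact Prod.ext (Subtype.ext e1.symm) (Subtype.ext (mul_inv_eq_one.1 h1.symm))
  have hq1 : Nat.card M * Nat.card M ∣ Nat.card {g : G // g ∉ NN M} := by
    letI act : MulAction (M × M) {g : G // g ∉ NN M} :=
      { smul := fun p g => ⟨(p.1 : G) * g * (p.2 : G)⁻¹, fun h => g.2
          ((Subgroup.mul_mem_cancel_left _ (le_N p.1.2)).1
            ((Subgroup.mul_mem_cancel_right _ (inv_mem (le_N p.2.2))).1 h))⟩
        one_smul := fun g => Subtype.ext (show (1 : G) * g * (1 : G)⁻¹ = g by group)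
        mul_smul := fun p r g => Subtype.ext (show
          ((p.1 : G) * r.1) * g * ((p.2 : G) * r.2)⁻¹ =
            (p.1 : G) * ((r.1 : G) * g * (r.2 : G)⁻¹) * (p.2 : G)⁻¹ by group) }
    rw [← Nat.card_prod]
    refine card_dvd_of_free fun p g e => ?_
    have e' : (p.1 : G) * g * (p.2 : G)⁻¹ = g := congrArg Subtype.val e
    have h2 : (g : G) * p.2 * (g : G)⁻¹ = p.1 := by
      calc (g : G) * p.2 * (g : G)⁻¹ = ((p.1 : G) * g * (p.2 : G)⁻¹) * p.2 * (g : G)⁻¹ := by rw [e']
        _ = _ := by group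
    have hp2 : (p.2 : G) = 1 := by
      by_contra h
      exact g.2 (hS.ti _ _ p.2.2 h (h2 ▸ p.1.2))
    have hp1 : (p.1 : G) = 1 := by rw [← h2, hp2]; group
    exact Prod.ext (Subtype.ext hp1) (Subtype.ext hp2)
  have hq2 : Nat.card M ∣ Nat.card {t : G // t * t = 1 ∧ t ∉ NN M} := by
    letI act : MulAction M {t : G // t * t = 1 ∧ t ∉ NN M} :=
      { smul := fun a t => ⟨(a : G) * t * (a : G)⁻¹,
          by calc (a : G) * t * (a : G)⁻¹ * ((a : G) * t * (a : G)⁻¹)
                = (a : G) * ((t : G) * t) * (a : G)⁻¹ := by group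
              _ = 1 := by rw [t.2.1]; group,
          fun h => t.2.2 ((Subgroup.mul_mem_cancel_left _ (le_N a.2)).1
            ((Subgroup.mul_mem_cancel_right _ (inv_mem (le_N a.2))).1 h))⟩
        one_smul := fun t => Subtype.ext (show (1 : G) * t * (1 : G)⁻¹ = t by group)
        mul_smul := fun a b t => Subtype.ext (show
          ((a : G) * b) * t * ((a : G) * b)⁻¹ = (a : G) * ((b : G) * t * (b : G)⁻¹) * (a : G)⁻¹
            by group) }
    refine card_dvd_of_free fun a t e => Subtype.ext ?_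
    exact hS.cent_free t.2.1 a.2 (mul_inv_eq_iff_eq_mul.1 (congrArg Subtype.val e))
      fun h => t.2.2 (by rw [h]; exact one_mem _)
  have hG : Nat.card G = Nat.card M * Nat.card ↥(CN M z) + Nat.card {g : G // g ∉ NN M} := by
    rw [← hS.card_N, ← Nat.card_congr (Equiv.sumCompl (fun g : G => g ∈ NN M)), Nat.card_sum]
  have hidx := M.index_mul_card
  have hle : Nat.card {t : G // t * t = 1 ∧ t ∉ NN M} * Nat.card M ≤ Nat.card {g : G // g ∉ NN M} := by
    rw [← Nat.card_prod]; exact Nat.card_le_card_of_injective Φ hinj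
  have hqpos : 0 < Nat.card M := Nat.card_pos
  have hmany : M.index + 1 ≤ Nat.card M + Nat.card {t : G // t * t = 1 ∧ t ∉ NN M} :=
    hS.card_invol ▸ hS.many
  have hEq : Nat.card {g : G // g ∉ NN M} =
      Nat.card {t : G // t * t = 1 ∧ t ∉ NN M} * Nat.card M := by
    obtain ⟨R, hR⟩ := Nat.le.dest hle
    have h1 : Nat.card M * Nat.card M ∣
        Nat.card {t : G // t * t = 1 ∧ t ∉ NN M} * Nat.card M := Nat.mul_dvd_mul_right hq2 _
    have h2 : Nat.card M * Nat.card M ∣ R := by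
      rw [← hR] at hq1; exact (Nat.dvd_add_right h1).1 hq1
    rcases Nat.eq_zero_or_pos R with h0 | h0
    · omega
    have h3 := Nat.le_of_dvd h0 h2
    exfalso
    have h4 := Nat.mul_le_mul_right (Nat.card M) hmany
    rw [Nat.add_mul, Nat.add_mul, one_mul] at h4
    omega
  refine ⟨hEq, fun g hg => ?_⟩
  have hb : Function.Bijective Φ := Function.Injective.bijective_of_nat_card_le hinj
    (by rw [Nat.card_prod, hEq])
  obtain ⟨⟨t, a⟩, e⟩ := hb.2 ⟨g, hg⟩
  have e' : (t : G) * a = g := congrArg Subtype.val e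
  exact ⟨(a : G)⁻¹, inv_mem a.2, by rw [← e', mul_inv_cancel_right]; exact t.2.1⟩

theorem coset_exists {g : G} (hg : g ∉ NN M) : ∃ m ∈ M, g * m * (g * m) = 1 :=
  hS.coset_exists_aux.2 g hg

/-- outside `N` the centralizer of `z` consists of involutions -/
theorem sq_of_cent {g : G} (hg : g ∉ NN M) (hc : g * z = z * g) : g * g = 1 := by
  obtain ⟨m, hm, h⟩ := hS.coset_exists hg
  have hm' : g * m⁻¹ * (g * m⁻¹) = 1 := by
    rw [← hS.z_invert hm]
    calc g * (z * m * z) * (g * (z * m * z))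
        = (g * z) * m * (z * (g * z)) * m * z := by group
      _ = (z * g) * m * ((z * z) * g) * m * z := by rw [hc]; group
      _ = z * (g * m * (g * m)) * z := by rw [hS.zz]; group
      _ = 1 := by rw [h, mul_one, hS.zz]
  have := hS.coset_unique hg hm (inv_mem hm) h hm'
  have h1 : m = 1 := hS.sq_eq_one_mem hm (by nth_rewrite 2 [this]; rw [mul_inv_cancel])
  rwa [h1, mul_one] at h

theorem C_lt : Nat.card ↥(CN M z) < Nat.card M := by
  have hG : Nat.card G = Nat.card M * Nat.card ↥(CN M z) + Nat.card {g : G // g ∉ NN M} := by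
    classical
    rw [← hS.card_N, ← Nat.card_congr (Equiv.sumCompl (fun g : G => g ∈ NN M)), Nat.card_sum]
  rw [hS.coset_exists_aux.1, ← M.index_mul_card] at hG
  have hmany := hS.many
  rw [hS.card_invol] at hmany
  have hqpos : 0 < Nat.card M := Nat.card_pos
  have h1 : M.index = Nat.card ↥(CN M z) + Nat.card {t : G // t * t = 1 ∧ t ∉ NN M} :=
    Nat.eq_of_mul_eq_mul_right hqpos (by rw [hG, Nat.add_mul]; ring)
  omega

/-- some involution outside `N` centralizes `z` -/
theorem exists_swap : ∃ u : G, u ∉ NN M ∧ u * z = z * u := by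
  classical
  by_contra! hne
  have hH : Subgroup.centralizer ({z} : Set G) = CN M z := by
    refine le_antisymm (fun g hg => ?_) inf_le_right
    rw [Subgroup.mem_centralizer_singleton_iff] at hg
    exact mem_C_iff.2 ⟨by_contra fun h => hne g h hg, hg⟩
  have hcls := card_class_mul z
  rw [hH] at hcls
  have hle : Nat.card {w : G // IsConj z w} ≤ Nat.card {g : G // orderOf g = 2} :=
    Nat.card_le_card_of_injective (fun w => ⟨w.1, by
      obtain ⟨g, hg⟩ := isConj_iff.1 w.2
      rw [← hg, orderOf_conj, hS.ord]⟩) fun a b e => by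
        simp only [Subtype.mk.injEq] at e; exact Subtype.ext e
  rw [hS.card_invol] at hle
  have hG : Nat.card G = Nat.card M * Nat.card ↥(CN M z) + Nat.card {g : G // g ∉ NN M} := by
    rw [← hS.card_N, ← Nat.card_congr (Equiv.sumCompl (fun g : G => g ∈ NN M)), Nat.card_sum]
  rw [hS.coset_exists_aux.1] at hG
  set c := Nat.card ↥(CN M z)
  set q := Nat.card M
  set I := Nat.card {t : G // t * t = 1 ∧ t ∉ NN M}
  have hlt : c < q := hS.C_lt
  have h1 : q * c + I * q ≤ (q + I) * c := by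
    rw [← hG, ← hcls]; exact Nat.mul_le_mul_right c hle
  have h2 : I * q ≤ I * c := by nlinarith
  have h3 : I = 0 := by
    by_contra h
    have := Nat.le_of_mul_le_mul_left h2 (Nat.pos_of_ne_zero h)
    omega
  refine hS.notNormal ⟨fun x hx g => conj_mem ?_ hx⟩
  by_contra hg
  haveI : Nonempty {g : G // g ∉ NN M} := ⟨⟨g, hg⟩⟩
  have hpos : 0 < Nat.card {g : G // g ∉ NN M} := Nat.card_pos
  rw [hS.coset_exists_aux.1] at hpos
  change 0 < I * q at hpos
  rw [h3, zero_mul] at hpos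
  omega

end Setup

end Cfsg.Agent.Involutions.TICount
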