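import Cfsg.Agent.Lib.Involutions.TICount.Two
import Cfsg.Agent.Lib.Involutions.AbelianCentralizer.Action
import Cfsg.Agent.Lib.Forms.DicksonAction
import Cfsg.Agent.Lib.Classical.GL2

/-!
# All involutions conjugate: `SL₂(2^e)`
-/

set_option autoImplicit false

namespace Cfsg.Agent.Involutions.TICount

open Involutions.Basic MulAction

variable {G : Type*} [Group G] {M : Subgroup G} {z : G}

/-- an odd abelian subgroup of `PSL₂(F)`, `F` of even order, is cyclic -/
theorem isCyclic_of_odd {F : Type*} [Field F] [Fintype F] [CharP F 2]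
    (H : Subgroup (Matrix.ProjectiveSpecialLinearGroup (Fin 2) F)) (ho : Odd (Nat.card H))
    (hc : ∀ a ∈ H, ∀ b ∈ H, a * b = b * a) : IsCyclic H := by
  classical
  haveI : Fact (Nat.Prime 2) := ⟨Nat.prime_two⟩
  have hT := Forms.DicksonAction.twoPt (F := F) 2
  have hord : ∀ g ∈ H, orderOf g ≠ 2 := fun g hg e =>
    ho.not_two_dvd_nat (by
      have := Subgroup.orderOf_dvd_natCard _ hg
      rwa [e] at this)
  rcases subsingleton_or_nontrivial H with h | h
  · infer_instance
  obtain ⟨⟨g₀, hg₀⟩, hne⟩ := exists_ne (1 : H)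
  have hg1 : g₀ ≠ 1 := fun e => hne (Subtype.ext e)
  obtain ⟨x, y, hxy, hfix⟩ := hT.exists_pair hg1 (hord g₀ hg₀)
  have hx : g₀ • x = x := by
    have : x ∈ fixedBy _ g₀ := hfix ▸ Set.mem_insert x {y}
    exact this
  refine hT.cyc x H (fun g hg => ?_) hord
  have himg : ∀ w, g₀ • w = w → g • w = x ∨ g • w = y := fun w hw => by
    have : g • w ∈ fixedBy _ g₀ := by
      show g₀ • (g • w) = g • w
      rw [smul_smul, hc g₀ hg₀ g hg, ← smul_smul, hw]
    rw [hfix] at this
    exact this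
  rcases himg x hx with e | e
  · exact e
  exfalso
  have hy : g₀ • y = y := by
    have : y ∈ fixedBy _ g₀ := hfix ▸ Or.inr rfl
    exact this
  have e' : g • y = x := (himg y hy).resolve_right fun e' =>
    hxy ((MulAction.injective g) (e.trans e'.symm))
  obtain ⟨j, hj⟩ := ho.of_dvd_nat (Subgroup.orderOf_dvd_natCard _ hg)
  have h2 : ∀ i : ℕ, g ^ (2 * i) • x = x := by
    intro i
    induction i with
    | zero => simp
    | succ i ih => rw [Nat.mul_succ, pow_add, pow_two, mul_smul, mul_smul, e, e', ih]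
  have h3 : g ^ (2 * j + 1) • x = x := by rw [← hj, pow_orderOf_eq_one, one_smul]
  rw [pow_succ', mul_smul, h2 j, e] at h3
  exact hxy h3.symm

namespace Setup

variable (hS : Setup M z) [Finite G] (hc : Nat.card ↥(CN M z) = 2)
include hS hc

theorem case_linear {k d : ℕ} (hd : 1 ≤ d) (hkd : k + 1 = 2 ^ d)
    (hV : Nat.card ↥(VV z) = 2 * (k + 1))
    (hI : Nat.card {g : G // orderOf g = 2} = Nat.card M * (2 * k + 1))
    (hG : Nat.card G = 2 * Nat.card M * (Nat.card {w : G // IsConj z w ∧ w ∈ VV z} * (k + 1)))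
    (hcls : Nat.card {w : G // IsConj z w} = Nat.card M * Nat.card {w : G // IsConj z w ∧ w ∈ VV z})
    (ha : Nat.card {w : G // IsConj z w ∧ w ∈ VV z} = 2 * k + 1) (hq : Nat.card M = 2 * k + 3) :
    ∃ (F : Type) (_ : Field F) (_ : Fintype F) (e : ℕ), 1 < e ∧ Fintype.card F = 2 ^ e ∧
      IsCyclic ↥M ∧ Nat.card M = 2 ^ e + 1 ∧
      Nonempty (G ≃* Matrix.ProjectiveSpecialLinearGroup (Fin 2) F) := by
  classical
  haveI : Fact (Nat.Prime 2) := ⟨Nat.prime_two⟩
  have hconj : ∀ w : G, orderOf w = 2 → IsConj z w := by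
    intro w hw
    have hb : Function.Bijective (fun v : {w : G // IsConj z w} => (⟨v.1, by
        obtain ⟨g, hg⟩ := isConj_iff.1 v.2
        rw [← hg, orderOf_conj, hS.ord]⟩ : {g : G // orderOf g = 2})) :=
      Function.Injective.bijective_of_nat_card_le
        (fun a b e => by simp only [Subtype.mk.injEq] at e; exact Subtype.ext e)
        (by rw [hI, hcls, ha])
    obtain ⟨v, hv⟩ := hb.2 ⟨w, hw⟩
    have e : (v : G) = w := congrArg Subtype.val hv
    exact e ▸ v.2
  have hcent : ∀ w ∈ VV z, w ≠ 1 → VV w = VV z := fun w hw h1 =>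
    hS.cent_conj hc (hconj w (orderOf_two_iff.2 ⟨hS.V_sq hc hw, h1⟩)) hw
  have hP : IsPGroup 2 ↥(VV z) := IsPGroup.of_card (n := d + 1) (by rw [hV, hkd, pow_succ']; )
  have hidx : (VV z).index = Nat.card M * (2 * k + 1) := by
    have h := (VV z).index_mul_card
    rw [hV, hG, ha] at h
    refine Nat.eq_of_mul_eq_mul_right (show 0 < 2 * (k + 1) by omega) ?_
    rw [h]; ring
  have hndvd : ¬ 2 ∣ (VV z).index := by
    rw [hidx]
    intro h
    rcases (Nat.Prime.dvd_mul Nat.prime_two).1 h with h | h <;> omega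
  let S : Sylow 2 G := hP.toSylow hndvd
  have hSV : (S : Subgroup G) = VV z := rfl
  have hcen : AbelianCentralizer.cen S = VV z := by
    show Subgroup.centralizer ((S : Subgroup G) : Set G) = VV z
    rw [hSV]
    refine le_antisymm (fun x hx => mem_VV.2 ?_) fun x hx => Subgroup.mem_centralizer_iff.2
      fun y hy => hS.V_comm hc hy hx
    exact (Subgroup.mem_centralizer_iff.1 hx z (mem_VV.2 rfl)).symm
  have hzV : z ∈ VV z := mem_VV.2 rfl
  obtain ⟨u, hu, huz⟩ := hS.exists_swap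
  have huV : u ∈ VV z := mem_VV.2 huz
  have hu2 : orderOf u = 2 := orderOf_two_iff.2 ⟨hS.sq_of_cent hu huz,
    fun e => hu (e ▸ one_mem _)⟩
  have hH : AbelianCentralizer.Hyp S := by
    refine ⟨?_, ?_, ?_, ⟨z, u, by rw [hSV]; exact hzV, by rw [hSV]; exact huV, hS.ord, hu2,
      fun e => hu (e ▸ hS.zN)⟩, ?_, ?_⟩
    · rw [hcen]; exact fun a ha b hb => hS.V_comm hc ha hb
    · rw [hcen, hSV]
    · intro s hs h2
      rw [hcen]
      exact hcent s (by rw [← hSV]; exact hs) (ne_one h2)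
    · intro hn
      rw [hSV] at hn
      have hall : ∀ g : {g : G // orderOf g = 2}, (g : G) ∈ VV z := fun g => by
        obtain ⟨x, hx⟩ := isConj_iff.1 (hconj g g.2)
        rw [← hx]; exact hn.conj_mem z hzV x
      have hle : Nat.card {g : G // orderOf g = 2} ≤ Nat.card ↥(VV z) :=
        Nat.card_le_card_of_injective (fun g => (⟨g.1, hall g⟩ : ↥(VV z))) fun a b e => by
          simp only [Subtype.mk.injEq] at e; exact Subtype.ext e
      rw [hI, hV, hq] at hle
      have : 3 * (2 * k + 1) ≤ (2 * k + 3) * (2 * k + 1) := Nat.mul_le_mul_right _ (by omega)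
      omega
    · intro a ha h1
      rw [hcen] at ha
      refine (hcent a ha h1).le.trans ?_
      rw [← hSV]; exact Subgroup.le_normalizer
  have hO : ∀ K : Subgroup G, K.Normal → Odd (Nat.card K) → K = ⊥ := by
    intro K hK hodd
    have hfpf : ∀ w ∈ VV z, w ≠ 1 → ∀ x ∈ K, w * x * w = x⁻¹ := by
      intro w hw h1 x hx
      have hw2 := hS.V_sq hc hw
      have hwi : w⁻¹ = w := inv_eq_of_mul_eq_one_right hw2
      have hinj : Function.Injective (fun y : K => (⟨(y : G)⁻¹ * (w * y * w⁻¹),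
          mul_mem (inv_mem y.2) (hK.conj_mem _ y.2 w)⟩ : K)) := by
        intro a b e
        have e' : (a : G)⁻¹ * (w * a * w⁻¹) = (b : G)⁻¹ * (w * b * w⁻¹) := congrArg Subtype.val e
        have hmem : (b : G) * (a : G)⁻¹ ∈ VV w := by
          rw [mem_VV]
          calc (b : G) * (a : G)⁻¹ * w
              = b * ((a : G)⁻¹ * (w * a * w⁻¹)) * (w * (a : G)⁻¹) := by group
            _ = b * ((b : G)⁻¹ * (w * b * w⁻¹)) * (w * (a : G)⁻¹) := by rw [e']
            _ = w * ((b : G) * (a : G)⁻¹) := by group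
        rw [hcent w hw h1] at hmem
        have h2 := hS.V_sq hc hmem
        have hk1 : (b : G) * (a : G)⁻¹ = 1 := by
          by_contra h
          have := Subgroup.orderOf_dvd_natCard K (mul_mem b.2 (inv_mem a.2))
          rw [orderOf_two_iff.2 ⟨h2, h⟩] at this
          exact hodd.not_two_dvd_nat this
        exact Subtype.ext (mul_inv_eq_one.1 hk1).symm
      obtain ⟨y, hy⟩ := Finite.surjective_of_injective hinj ⟨x, hx⟩
      have hy' : (y : G)⁻¹ * (w * y * w⁻¹) = x := congrArg Subtype.val hy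
      rw [← hy', hwi]
      calc w * ((y : G)⁻¹ * (w * y * w)) * w = w * (y : G)⁻¹ * w * y * (w * w) := by group
        _ = w * (y : G)⁻¹ * w * y := by rw [hw2, mul_one]
        _ = _ := by rw [mul_inv_rev, mul_inv_rev, mul_inv_rev, inv_inv, hwi, mul_assoc w]
    refine (Subgroup.eq_bot_iff_forall _).2 fun x hx => ?_
    have hzu : z * u ∈ VV z := mul_mem hzV huV
    have h1 : z * u ≠ 1 := fun e => hu (by
      rw [mul_eq_one_iff_inv_eq.1 e |>.symm]; exact inv_mem hS.zN)
    have e1 := hfpf (z * u) hzu h1 x hx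
    have e2 : z * u * x * (z * u) = x := by
      calc z * u * x * (z * u) = z * (u * x * u) * (u⁻¹ * (z * u)) := by group
        _ = z * x⁻¹ * (u⁻¹ * (u * z)) := by rw [hfpf u huV (ne_one hu2) x hx, huz]
        _ = z * x⁻¹ * z := by rw [inv_mul_cancel_left]
        _ = x := by rw [hfpf z hzV (ne_one hS.ord) _ (inv_mem hx), inv_inv]
    rw [e2] at e1
    by_contra hx1
    have := Subgroup.orderOf_dvd_natCard K hx
    rw [orderOf_two_iff.2 ⟨mul_eq_one_iff_eq_inv.2 e1, hx1⟩] at this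
    exact hodd.not_two_dvd_nat this
  obtain ⟨K, i1, i2, hchar, -, -, ⟨eK⟩⟩ := hH.iso hO
  haveI := hchar
  obtain ⟨e, -, he⟩ := FiniteField.card K 2
  have hev : Even (Fintype.card K) := by
    rw [he]; exact (even_two.pow_of_ne_zero e.ne_zero)
  have hcenter : Subgroup.center (Matrix.SpecialLinearGroup (Fin 2) K) = ⊥ := by
    rw [Subgroup.eq_bot_iff_forall]
    intro x hx
    obtain ⟨c, hc', hcx⟩ := Matrix.SpecialLinearGroup.mem_center_iff.1 hx
    rw [Fintype.card_fin] at hc'
    have hc1 : c = 1 := by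
      have h0 : (c - 1) * (c - 1) = 0 := by
        linear_combination hc' + (1 - c) * (CharTwo.two_eq_zero : (2 : K) = 0)
      exact sub_eq_zero.1 (mul_self_eq_zero.1 h0)
    refine Subtype.ext ?_
    rw [← hcx, hc1]
    simp
  let e'' : Matrix.SpecialLinearGroup (Fin 2) K ≃* Matrix.ProjectiveSpecialLinearGroup (Fin 2) K :=
    (QuotientGroup.quotientBot.symm).trans (QuotientGroup.quotientMulEquivOfEq hcenter.symm)
  let φ := eK.trans e''
  have hcard : Fintype.card K * ((Fintype.card K - 1) * (Fintype.card K + 1)) = Nat.card G := by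
    rw [Nat.card_congr eK.toEquiv, Classical.GL2.natCard_SL_two]
  have hval : Fintype.card K = 2 * (k + 1) := by
    have hK2 : 2 ≤ Fintype.card K := Fintype.one_lt_card
    obtain ⟨j, hj⟩ := hev
    have hA : ¬ 2 ∣ (Fintype.card K - 1) * (Fintype.card K + 1) := fun h => by
      rcases (Nat.Prime.dvd_mul Nat.prime_two).1 h with h | h <;> omega
    have hodd2 : Odd (Nat.card M * (2 * k + 1)) := Odd.mul hS.odd_M ⟨k, rfl⟩
    have hB : ¬ 2 ∣ Nat.card M * (2 * k + 1) := hodd2.not_two_dvd_nat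
    rw [he] at hcard hA
    rw [he, hkd, ← pow_succ']
    have heq : 2 ^ (e : ℕ) * ((2 ^ (e : ℕ) - 1) * (2 ^ (e : ℕ) + 1)) =
        2 ^ (d + 1) * (Nat.card M * (2 * k + 1)) := by
      rw [hcard, hG, ha, pow_succ, ← hkd]; ring
    have c1 : Nat.Coprime (2 ^ (e : ℕ)) (Nat.card M * (2 * k + 1)) :=
      Nat.Coprime.pow_left _ ((Nat.prime_two.coprime_iff_not_dvd).2 hB)
    have c2 : Nat.Coprime (2 ^ (d + 1)) ((2 ^ (e : ℕ) - 1) * (2 ^ (e : ℕ) + 1)) :=
      Nat.Coprime.pow_left _ ((Nat.prime_two.coprime_iff_not_dvd).2 hA)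
    exact Nat.dvd_antisymm (c1.dvd_of_dvd_mul_right ⟨_, heq.symm⟩)
      (c2.dvd_of_dvd_mul_right ⟨_, heq⟩)
  refine ⟨K, i1, i2, d + 1, by omega, by rw [hval, hkd, pow_succ'], ?_, ?_, ⟨φ⟩⟩
  · have h := isCyclic_of_odd (M.map φ.toMonoidHom)
      (by rw [Subgroup.card_map_of_injective φ.injective]; exact hS.odd_M)
      (by rintro _ ⟨a, ha, rfl⟩ _ ⟨b, hb, rfl⟩; rw [← map_mul, ← map_mul, hS.comm ha hb])
    exact isCyclic_of_surjective (M.equivMapOfInjective φ.toMonoidHom φ.injective).symm.toMonoidHom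
      (M.equivMapOfInjective φ.toMonoidHom φ.injective).symm.surjective
  · rw [hq, pow_succ, ← hkd]; ring

end Setup

end Cfsg.Agent.Involutions.TICount
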