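import Cfsg.Agent.Lib.Involutions.TICount.Structure
import Cfsg.Agent.Lib.Perm.Zassenhaus.Action
import Cfsg.Prelude.Def_Transfer

/-!
# One swap: `PGL₂(q)` or `PSL₂(q)`
-/

set_option autoImplicit false

namespace Cfsg.Agent.Involutions.TICount

open Involutions.Basic MulAction

variable {G : Type*} [Group G] {M : Subgroup G} {z : G}

theorem smul_fix_iff {N : Subgroup G} {g a : G} :
    g • (a : G ⧸ N) = (a : G ⧸ N) ↔ a⁻¹ * g * a ∈ N := by
  rw [MulAction.Quotient.smul_mk, eq_comm, QuotientGroup.eq, smul_eq_mul, mul_assoc]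

theorem smul_base_iff {N : Subgroup G} {g : G} :
    g • ((1 : G) : G ⧸ N) = ((1 : G) : G ⧸ N) ↔ g ∈ N := by
  rw [smul_fix_iff, inv_one, one_mul, mul_one]

namespace Setup

variable (hS : Setup M z) [Finite G]
include hS

/-- the elements of `M` commuting with a point stabilizer are trivial -/
theorem eq_one_of_central {g : G} (hg : g ∈ NN M) (hc : ∀ x ∈ M, g * x = x * g) : g ∈ M := by
  obtain ⟨m, hm, h, hh, rfl⟩ := hS.N_decomp hg
  obtain ⟨x, hx, hx1⟩ := hS.exists_ne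
  have h1 : h = 1 := by
    refine hS.semiregular hh hx hx1 ?_
    calc h * x = m⁻¹ * (m * h * x) := by group
      _ = m⁻¹ * x * (m * h) := by rw [hc x hx]; group
      _ = x * h := by rw [hS.comm (inv_mem hm) hx]; group
  rw [h1, mul_one]; exact hm

theorem frame (hU : Nat.card {v : G // v * z = z * v ∧ v ∉ NN M} = Nat.card ↥(CN M z))
    {u : G} (hu : u ∉ NN M) (huz : u * z = z * u) :
    Nat.card (G ⧸ NN M) = Nat.card M + 1 ∧
    Perm.Zassenhaus.Frame3 ((1 : G) : G ⧸ NN M) (u : G ⧸ NN M) M ∧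
    stabilizer G ((1 : G) : G ⧸ NN M) ⊓ stabilizer G (u : G ⧸ NN M) = CN M z := by
  classical
  have hu2 := hS.sq_of_cent hu huz
  have hui : u⁻¹ = u := inv_eq_of_mul_eq_one_right hu2
  have hne : ((1 : G) : G ⧸ NN M) ≠ (u : G ⧸ NN M) := fun e => hu (by
    rw [QuotientGroup.eq, inv_one, one_mul] at e
    exact e)
  have hX : Nat.card (G ⧸ NN M) = Nat.card M + 1 := by
    have h := (NN M).index_mul_card
    rw [hS.card_N, hS.card_group, hU] at h
    refine Nat.eq_of_mul_eq_mul_right (Nat.mul_pos Nat.card_pos Nat.card_pos : 0 < Nat.card M * Nat.card ↥(CN M z)) ?_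
    rw [← Subgroup.index_eq_card, h]; ring
  have hD : ∀ g, g ∈ NN M → u⁻¹ * g * u ∈ NN M → g ∈ CN M z := by
    intro g hg hg'
    obtain ⟨m, hm, h, hh, e⟩ := hS.N_decomp hg
    have := hS.eq_of_D hu hm (one_mem M) hh hg' (by
      rw [hui, hS.inverts_C hu huz hh]; exact inv_mem (mem_C_iff.1 hh).1) e (one_mul h).symm
    rw [this]; exact hh
  have hstab : stabilizer G ((1 : G) : G ⧸ NN M) ⊓ stabilizer G (u : G ⧸ NN M) = CN M z := by
    ext g
    rw [Subgroup.mem_inf, mem_stabilizer_iff, mem_stabilizer_iff, smul_base_iff, smul_fix_iff]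
    refine ⟨fun h => hD g h.1 h.2, fun h => ⟨(mem_C_iff.1 h).1, ?_⟩⟩
    rw [hui, hS.inverts_C hu huz h]
    exact inv_mem (mem_C_iff.1 h).1
  have hfreeM : ∀ a ∈ M, a • (u : G ⧸ NN M) = (u : G ⧸ NN M) → a = 1 := fun a ha e =>
    hS.M_inf_conj_N hu ha (smul_fix_iff.1 e)
  have hfaith : FaithfulSMul G (G ⧸ NN M) := by
    refine ⟨fun {g₁ g₂} h => ?_⟩
    have key : ∀ g : G, (∀ y : G ⧸ NN M, g • y = y) → g = 1 := by
      intro g hg
      have hgN : g ∈ NN M := smul_base_iff.1 (hg _)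
      have hcen : ∀ x ∈ M, g * x = x * g := by
        intro x hx
        have hw : g * x * g⁻¹ * x⁻¹ ∈ M := mul_mem (conj_mem hgN hx) (inv_mem hx)
        have h1 : ∀ y : G ⧸ NN M, (g * x * g⁻¹ * x⁻¹) • y = y := fun y => by
          rw [mul_smul, mul_smul, mul_smul,
            show g⁻¹ • (x⁻¹ • y) = x⁻¹ • y from inv_smul_eq_iff.2 (hg _).symm, smul_inv_smul, hg]
        have := hS.M_inf_conj_N hu hw (smul_fix_iff.1 (h1 _))
        rwa [mul_inv_eq_one, mul_inv_eq_iff_eq_mul] at this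
      exact hfreeM g (hS.eq_one_of_central hgN hcen) (hg _)
    exact inv_mul_eq_one.1 (key (g₁⁻¹ * g₂) fun y => by rw [mul_smul, ← h y, inv_smul_smul])
  haveI := Fintype.ofFinite (G ⧸ NN M)
  have hbij : Function.Bijective (fun a : M => (⟨(a : G) • (u : G ⧸ NN M), fun e => hne (by
      have := smul_base_iff.2 (inv_mem (le_N a.2))
      rw [← this, ← e, inv_smul_smul])⟩ : {y : G ⧸ NN M // y ≠ ((1 : G) : G ⧸ NN M)})) := by
    refine Function.Injective.bijective_of_nat_card_le (fun a b e => ?_) ?_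
    · have e' : (a : G) • (u : G ⧸ NN M) = (b : G) • (u : G ⧸ NN M) := congrArg Subtype.val e
      have := hfreeM ((b : G)⁻¹ * a) (mul_mem (inv_mem b.2) a.2)
        (by rw [mul_smul, e', inv_smul_smul])
      exact Subtype.ext (inv_mul_eq_one.1 this).symm
    · rw [Nat.card_eq_fintype_card, Fintype.card_subtype_compl, Fintype.card_subtype_eq,
        ← Nat.card_eq_fintype_card, hX, Nat.add_sub_cancel]
  refine ⟨hX, ⟨hne, hfaith, ?_, fun g hg a ha => conj_mem (smul_base_iff.1 hg) ha,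
    fun a ha b hb => hS.comm ha hb, ?_, ?_⟩, hstab⟩
  · intro a ha
    rw [mem_stabilizer_iff, smul_base_iff]; exact le_N ha
  · intro y w hy hw
    obtain ⟨a, ha⟩ := hbij.2 ⟨y, hy⟩
    obtain ⟨b, hb⟩ := hbij.2 ⟨w, hw⟩
    have ha' : (a : G) • (u : G ⧸ NN M) = y := congrArg Subtype.val ha
    have hb' : (b : G) • (u : G ⧸ NN M) = w := congrArg Subtype.val hb
    refine ⟨b * a⁻¹, ?_, fun r hr => ?_⟩
    · show ((b * a⁻¹ : M) : G) • y = w
      rw [Subgroup.coe_mul, mul_smul, ← ha', Subgroup.coe_inv, inv_smul_smul, hb']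
    · have h1 := hfreeM (((b : G))⁻¹ * (r * a)) (mul_mem (inv_mem b.2) (mul_mem r.2 a.2))
        (by rw [mul_smul, mul_smul, ha', show (r : G) • y = w from hr, ← hb', inv_smul_smul])
      refine Subtype.ext ?_
      rw [Subgroup.coe_mul, Subgroup.coe_inv]
      exact eq_mul_inv_of_mul_eq (inv_mul_eq_one.1 h1).symm
  · intro g hg hgu c hc1 hc2 hgc
    obtain ⟨a, ha⟩ := hbij.2 ⟨c, hc1⟩
    have ha' : (a : G) • (u : G ⧸ NN M) = c := congrArg Subtype.val ha
    have hgC : g ∈ CN M z := hD g (smul_base_iff.1 hg) (smul_fix_iff.1 hgu)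
    have hgN := (mem_C_iff.1 hgC).1
    have hfix : ((a : G)⁻¹ * g * a) • (u : G ⧸ NN M) = (u : G ⧸ NN M) := by
      rw [mul_smul, mul_smul, ha', hgc, ← ha', inv_smul_smul]
    have hgu' : u⁻¹ * g * u ∈ NN M := smul_fix_iff.1 hgu
    have := hS.eq_of_D hu (mul_mem (inv_mem a.2) (conj_mem hgN a.2)) (one_mem M) hgC
      (e := (a : G)⁻¹ * g * a) (e' := g) (smul_fix_iff.1 hfix) hgu' (by group) (one_mul g).symm
    by_contra hg1
    refine hg1 (hS.semiregular hgC a.2 (fun e => hc2 (by rw [← ha', e, one_smul])) ?_)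
    calc g * (a : G) = a * ((a : G)⁻¹ * g * a) := by group
      _ = a * g := by rw [this]

/-- the invariant subsets of `M` avoiding `1` -/
theorem C_dvd_of_invariant (P : G → Prop) (hP : ∀ x h : G, P x → P (h * x * h⁻¹)) :
    Nat.card ↥(CN M z) ∣ Nat.card {x : G // x ∈ M ∧ x ≠ 1 ∧ P x} := by
  letI act : MulAction ↥(CN M z) {x : G // x ∈ M ∧ x ≠ 1 ∧ P x} :=
    { smul := fun h x => ⟨(h : G) * (x : G) * (h : G)⁻¹, conj_mem (mem_C_iff.1 h.2).1 x.2.1,
        fun e => x.2.2.1 (conj_eq_one_iff.1 e), hP _ _ x.2.2.2⟩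
      one_smul := fun x => Subtype.ext (show (1 : G) * x * (1 : G)⁻¹ = x by group)
      mul_smul := fun a b x => Subtype.ext (show
        ((a : G) * b) * x * ((a : G) * b)⁻¹ = (a : G) * ((b : G) * x * (b : G)⁻¹) * (a : G)⁻¹
          by group) }
  refine card_dvd_of_free fun h x e => Subtype.ext (hS.semiregular h.2 x.2.1 x.2.2.1 ?_)
  exact mul_inv_eq_iff_eq_mul.1 (congrArg Subtype.val e)

theorem elementary {p f : ℕ} [hp : Fact p.Prime] (hM : Nat.card M = p ^ f)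
    (hl : Nat.card M - 1 ≤ 2 * Nat.card ↥(CN M z)) : ∀ x ∈ M, x ^ p = 1 := by
  classical
  by_contra! hex
  obtain ⟨y, hy, hyp⟩ := hex
  set c := Nat.card ↥(CN M z)
  have hf : f ≠ 0 := fun e => by
    rw [e, pow_zero] at hM
    exact hS.ne (Subgroup.card_eq_one.1 hM)
  haveI : Finite {x : G // x ∈ M ∧ x ≠ 1 ∧ x ^ p = 1} := Subtype.finite
  have hA := hS.C_dvd_of_invariant (fun x => x ^ p = 1) fun x h e => by
    rw [conj_pow, e, mul_one, mul_inv_cancel]
  have hB := hS.C_dvd_of_invariant (fun x => x ^ p ≠ 1) fun x h e e' => by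
    rw [conj_pow, conj_eq_one_iff] at e'
    exact e e'
  obtain ⟨w, hw⟩ := exists_prime_orderOf_dvd_card' p (by rw [hM]; exact dvd_pow_self p hf)
  have hw' : orderOf (w : G) = p := by rw [Subgroup.orderOf_coe, hw]
  haveI : Nonempty {x : G // x ∈ M ∧ x ≠ 1 ∧ x ^ p = 1} :=
    ⟨⟨w, w.2, fun e => by rw [e, orderOf_one] at hw'; exact hp.out.one_lt.ne hw',
      by rw [← hw']; exact pow_orderOf_eq_one _⟩⟩
  haveI : Nonempty {x : G // x ∈ M ∧ x ≠ 1 ∧ x ^ p ≠ 1} :=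
    ⟨⟨y, hy, fun e => hyp (by rw [e, one_pow]), hyp⟩⟩
  have hA1 := Nat.le_of_dvd Nat.card_pos hA
  have hB1 := Nat.le_of_dvd Nat.card_pos hB
  let Ω : Subgroup G :=
    { carrier := {x | x ∈ M ∧ x ^ p = 1}
      one_mem' := ⟨one_mem _, one_pow _⟩
      mul_mem' := fun {a b} ha hb => ⟨mul_mem ha.1 hb.1, by
        rw [(show Commute a b from hS.comm ha.1 hb.1).mul_pow, ha.2, hb.2, one_mul]⟩
      inv_mem' := fun {a} ha => ⟨inv_mem ha.1, by rw [inv_pow, ha.2, inv_one]⟩ }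
  have hΩ : IsPGroup p Ω := fun x => ⟨1, Subtype.ext (by rw [pow_one]; exact x.2.2)⟩
  obtain ⟨j, hj⟩ := IsPGroup.iff_card.1 hΩ
  have h1 : Nat.card Ω = 1 + Nat.card {x : G // x ∈ M ∧ x ≠ 1 ∧ x ^ p = 1} := by
    rw [← Nat.card_unique (α := PUnit.{1}), ← Nat.card_sum]
    refine (Nat.card_congr (Equiv.ofBijective (fun s : PUnit.{1} ⊕ {x : G // x ∈ M ∧ x ≠ 1 ∧ x ^ p = 1} =>
      Sum.elim (fun _ => (1 : Ω)) (fun x => ⟨x.1, x.2.1, x.2.2.2⟩) s) ⟨?_, ?_⟩)).symm
    · rintro (_ | a) (_ | b) e <;> simp only [Sum.elim_inl, Sum.elim_inr] at e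
      · rfl
      · exact absurd (congrArg Subtype.val e).symm b.2.2.1
      · exact absurd (congrArg Subtype.val e) a.2.2.1
      · exact congrArg Sum.inr (Subtype.ext (by have := congrArg Subtype.val e; exact this))
    · rintro ⟨x, hx⟩
      by_cases hx1 : x = 1
      · exact ⟨Sum.inl ⟨⟩, Subtype.ext hx1.symm⟩
      · exact ⟨Sum.inr ⟨x, hx.1, hx1, hx.2⟩, rfl⟩
  have h2 : Nat.card {x : G // x ∈ M ∧ x ≠ 1 ∧ x ^ p = 1} +
      Nat.card {x : G // x ∈ M ∧ x ≠ 1 ∧ x ^ p ≠ 1} = Nat.card M - 1 := by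
    haveI := Fintype.ofFinite M
    have hcard : Nat.card {x : M // x ≠ 1} = Nat.card M - 1 := by
      rw [Nat.card_eq_fintype_card, Fintype.card_subtype_compl, Fintype.card_subtype_eq,
        ← Nat.card_eq_fintype_card]
    rw [← hcard, ← Nat.card_sum]
    refine Nat.card_congr (Equiv.ofBijective
      (fun s : {x : G // x ∈ M ∧ x ≠ 1 ∧ x ^ p = 1} ⊕ {x : G // x ∈ M ∧ x ≠ 1 ∧ x ^ p ≠ 1} =>
        Sum.elim (fun x => (⟨⟨x.1, x.2.1⟩, fun e => x.2.2.1 (congrArg Subtype.val e)⟩ : {x : M // x ≠ 1}))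
          (fun x => ⟨⟨x.1, x.2.1⟩, fun e => x.2.2.1 (congrArg Subtype.val e)⟩) s) ⟨?_, ?_⟩)
    · rintro (a | a) (b | b) e <;>
        simp only [Sum.elim_inl, Sum.elim_inr, Subtype.mk.injEq] at e
      · exact congrArg Sum.inl (Subtype.ext e)
      · exact absurd (e ▸ a.2.2.2) b.2.2.2
      · exact absurd (e.symm ▸ b.2.2.2) a.2.2.2
      · exact congrArg Sum.inr (Subtype.ext e)
    · rintro ⟨⟨x, hx⟩, hx1⟩
      have hx1' : x ≠ 1 := fun e => hx1 (Subtype.ext e)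
      by_cases hxp : x ^ p = 1
      · exact ⟨Sum.inl ⟨x, hx, hx1', hxp⟩, rfl⟩
      · exact ⟨Sum.inr ⟨x, hx, hx1', hxp⟩, rfl⟩
  have hq1 : 1 ≤ Nat.card M := Nat.card_pos
  have h3 : p ^ f + 1 = 2 * p ^ j := by rw [← hM, ← hj, h1]; omega
  have hj0 : j ≠ 0 := fun e => by
    rw [e, pow_zero, h1] at hj
    have hpos : 0 < Nat.card {x : G // x ∈ M ∧ x ≠ 1 ∧ x ^ p = 1} := Nat.card_pos
    omega
  have h4 : p ∣ 1 := by
    rw [Nat.dvd_add_iff_right (dvd_pow_self p hf), h3]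
    exact Dvd.dvd.mul_left (dvd_pow_self p hj0) 2
  exact hp.out.one_lt.ne' (Nat.dvd_one.1 h4)

theorem case_one (hU : Nat.card {v : G // v * z = z * v ∧ v ∉ NN M} = Nat.card ↥(CN M z)) :
    ∃ (F : Type) (_ : Field F) (_ : Fintype F) (p : ℕ) (_ : Fact p.Prime) (_ : CharP F p),
      Fintype.card F = Nat.card M ∧ Cfsg.IsElementaryAbelian p M ∧
        (Nonempty (G ≃* (GL (Fin 2) F ⧸ Subgroup.center (GL (Fin 2) F))) ∨
         (Fintype.card F % 4 = 1 ∧
          Nonempty (G ≃* Matrix.ProjectiveSpecialLinearGroup (Fin 2) F))) := by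
  classical
  obtain ⟨u, hu, huz⟩ := hS.exists_swap
  obtain ⟨hX, hframe, hstab⟩ := hS.frame hU hu huz
  set c := Nat.card ↥(CN M z) with hc
  set q := Nat.card M with hq
  have hcpos : 0 < c := Nat.card_pos
  have hlt : c < q := hS.C_lt
  have hceven : 2 ∣ c := by
    have := Subgroup.orderOf_dvd_natCard _ hS.z_mem_C
    rwa [hS.ord] at this
  have hineq : q - 1 ≤ 2 * c := by
    have hcls := card_class_mul z
    rw [hS.card_cent, hU, hS.card_group, hU] at hcls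
    have hle : Nat.card {w : G // IsConj z w} ≤ Nat.card {g : G // orderOf g = 2} :=
      Nat.card_le_card_of_injective (fun w => ⟨w.1, by
        obtain ⟨g, hg⟩ := isConj_iff.1 w.2
        rw [← hg, orderOf_conj, hS.ord]⟩) fun a b e => by
          simp only [Subtype.mk.injEq] at e; exact Subtype.ext e
    rw [hS.card_invol', hU] at hle
    have h1 : q * (c + q * c) ≤ q * ((1 + c) * (c + c)) := by
      rw [← hcls, ← mul_assoc]; exact Nat.mul_le_mul_right _ hle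
    have h2 : c * (1 + q) ≤ c * (2 * (1 + c)) := by
      have := Nat.le_of_mul_le_mul_left h1 (by omega)
      calc c * (1 + q) = c + q * c := by ring
        _ ≤ (1 + c) * (c + c) := this
        _ = _ := by ring
    have := Nat.le_of_mul_le_mul_left h2 hcpos
    omega
  obtain ⟨l, hl⟩ := hS.C_dvd
  rw [← hc, ← hq] at hl
  have hl12 : l = 1 ∨ l = 2 := by
    rcases l with _ | _ | _ | l
    · rw [mul_zero] at hl; omega
    · exact Or.inl rfl
    · exact Or.inr rfl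
    · exfalso
      have : c * 3 ≤ c * (l + 3) := Nat.mul_le_mul_left c (by omega)
      rw [show l + 1 + 1 + 1 = l + 3 from rfl] at hl
      omega
  have hcase : Nat.card (G ⧸ NN M) =
      Nat.card ↥(stabilizer G ((1 : G) : G ⧸ NN M) ⊓ stabilizer G (u : G ⧸ NN M)) + 2 ∨
      Nat.card (G ⧸ NN M) =
      2 * Nat.card ↥(stabilizer G ((1 : G) : G ⧸ NN M) ⊓ stabilizer G (u : G ⧸ NN M)) + 2 := by
    rw [hstab, hX, ← hc]
    rcases hl12 with rfl | rfl <;> omega
  have hu2 := hS.sq_of_cent hu huz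
  obtain ⟨K, i1, i2, hK, hpgl, hpsl⟩ := hframe.iso_of_inverted (s := u)
    (by rw [MulAction.Quotient.smul_mk, smul_eq_mul, mul_one]) hu2
    (fun g h1 h2 => hS.inverts_C hu huz (hstab ▸ Subgroup.mem_inf.2 ⟨h1, h2⟩)) hcase
  have hKq : Fintype.card K = q := by omega
  obtain ⟨p, hpc⟩ := CharP.exists K
  haveI : Fact p.Prime := ⟨CharP.char_is_prime K p⟩
  obtain ⟨f, -, hf⟩ := FiniteField.card K p
  refine ⟨K, i1, i2, p, inferInstance, hpc, hKq, ⟨⟨⟨fun a b => Subtype.ext (hS.comm a.2 b.2)⟩⟩,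
    hS.elementary (f := f) (by rw [← hq, ← hKq, hf]) (by rw [← hq, ← hc]; exact hineq)⟩, ?_⟩
  rw [hstab, hX, ← hc] at hcase
  rcases hcase with h | h
  · exact Or.inl (hpgl (by rw [hstab, hX, ← hc]; exact h))
  · refine Or.inr ⟨?_, (hpsl (by rw [hstab, hX, ← hc]; exact h)).2⟩
    rw [hKq]
    obtain ⟨j, hj⟩ := hceven
    omega

end Setup

end Cfsg.Agent.Involutions.TICount
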