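import Cfsg.Agent.Lib.Involutions.TICount.Base

/-!
# `N` is a Frobenius group and every involution outside `N` is conjugate to one of `C(z) ∖ N`
-/

set_option autoImplicit false

namespace Cfsg.Agent.Involutions.TICount

open Involutions.Basic

variable {G : Type*} [Group G] {M : Subgroup G} {z : G}

namespace Setup

variable (hS : Setup M z) [Finite G]
include hS

/-- an element outside `N` centralizing `z` inverts `C` -/
theorem inverts_C {u h : G} (hu : u ∉ NN M) (huz : u * z = z * u) (hh : h ∈ CN M z) :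
    u * h * u = h⁻¹ := by
  obtain ⟨hN, hc⟩ := mem_C_iff.1 hh
  have huh : u * h ∉ NN M := fun e => hu ((Subgroup.mul_mem_cancel_right _ hN).1 e)
  have huhz : u * h * z = z * (u * h) := by rw [mul_assoc, hc, ← mul_assoc, huz, mul_assoc]
  have h1 := hS.sq_of_cent huh huhz
  calc u * h * u = u * h * (u * h) * h⁻¹ := by group
    _ = h⁻¹ := by rw [h1, one_mul]

theorem C_comm {h h' : G} (hh : h ∈ CN M z) (hh' : h' ∈ CN M z) : h * h' = h' * h := by
  obtain ⟨u, hu, huz⟩ := hS.exists_swap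
  have h2 := hS.sq_of_cent hu huz
  have e1 := hS.inverts_C hu huz (mul_mem hh hh')
  have e2 : u * (h * h') * u = (u * h * u) * (u * h' * u) := by
    calc u * (h * h') * u = u * h * 1 * h' * u := by group
      _ = u * h * (u * u) * h' * u := by rw [h2]
      _ = _ := by group
  rw [e2, hS.inverts_C hu huz hh, hS.inverts_C hu huz hh', ← mul_inv_rev] at e1
  exact (inv_injective e1).symm

/-- an element of `C` commuting with an element outside `N` centralizing `z` squares to one -/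
theorem sq_of_commute {u h : G} (hu : u ∉ NN M) (huz : u * z = z * u) (hh : h ∈ CN M z)
    (hc : u * h = h * u) : h * h = 1 := by
  have e := hS.inverts_C hu huz hh
  rw [hc, mul_assoc, hS.sq_of_cent hu huz, mul_one] at e
  rw [mul_eq_one_iff_eq_inv]
  exact e

/-- `C` acts without fixed points on `M` -/
theorem semiregular {h x : G} (hh : h ∈ CN M z) (hx : x ∈ M) (hx1 : x ≠ 1) (hc : h * x = x * h) :
    h = 1 := by
  classical
  by_contra hne
  obtain ⟨u, hu, huz⟩ := hS.exists_swap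
  have hhz : h ≠ z := fun e => ne_one hS.ord (hS.no_invol hx hx1 hS.zz (e ▸ hc))
  have h2 : h * h ≠ 1 := fun e => (hS.C_sq_cases hh e).elim hne hhz
  set K := Subgroup.centralizer ({h} : Set G) with hK
  have hmK : ∀ g, g ∈ K ↔ g * h = h * g := fun g => Subgroup.mem_centralizer_singleton_iff
  have hCK : ∀ g, g ∈ CN M z → g ∈ K := fun g hg => (hmK g).2 (hS.C_comm hg hh)
  have hzK : z ∈ K := hCK z hS.z_mem_C
  have hxK : x ∈ K := (hmK x).2 hc.symm
  have hKC : ∀ g, g ∈ K → g * z = z * g → g ∈ CN M z := fun g hg hgz =>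
    mem_C_iff.2 ⟨by_contra fun hgN => h2 (hS.sq_of_commute hgN hgz hh ((hmK g).1 hg)), hgz⟩
  have hcentK : ∀ g : K, g ∈ Subgroup.centralizer ({(⟨z, hzK⟩ : K)} : Set K) ↔ (g : G) ∈ CN M z := by
    intro g
    rw [Subgroup.mem_centralizer_singleton_iff, Subtype.ext_iff, Subgroup.coe_mul, Subgroup.coe_mul]
    exact ⟨hKC g g.2, fun e => (mem_C_iff.1 e).2⟩
  -- all involutions of `K` are conjugate to `z`
  have hordz : orderOf (⟨z, hzK⟩ : K) = 2 := by rw [Subgroup.orderOf_mk, hS.ord]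
  have hconj : ∀ t : K, orderOf t = 2 → IsConj (⟨z, hzK⟩ : K) t := by
    intro t ht
    by_contra hnc
    obtain ⟨hw, hwz, hwt⟩ :=
      middle_involution hordz ht (even_orderOf_mul_of_not_isConj hordz ht hnc)
    set w := ((⟨z, hzK⟩ : K) * t) ^ (orderOf ((⟨z, hzK⟩ : K) * t) / 2) with hwdef
    have hwC : (w : G) ∈ CN M z := hKC w w.2 (congrArg Subtype.val hwz.eq)
    obtain ⟨hw2, hw1⟩ := orderOf_two_iff.1 hw
    rcases hS.C_sq_cases hwC (congrArg Subtype.val hw2) with e | e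
    · exact hw1 (Subtype.ext e)
    have htC : (t : G) ∈ CN M z := hKC t t.2 (by
      have := congrArg Subtype.val hwt.eq
      rw [Subgroup.coe_mul, Subgroup.coe_mul, e] at this
      exact this.symm)
    obtain ⟨ht2, ht1⟩ := orderOf_two_iff.1 ht
    rcases hS.C_sq_cases htC (congrArg Subtype.val ht2) with e' | e'
    · exact ht1 (Subtype.ext e')
    · exact hnc (show IsConj _ t from (Subtype.ext e' : t = ⟨z, hzK⟩) ▸ IsConj.refl _)
  -- the counts in `K`
  have hcK : Nat.card (Subgroup.centralizer ({(⟨z, hzK⟩ : K)} : Set K)) = Nat.card ↥(CN M z) :=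
    Nat.card_congr
      { toFun := fun g => ⟨(g : K), (hcentK g).1 g.2⟩
        invFun := fun g => ⟨⟨g, hCK g g.2⟩, (hcentK _).2 g.2⟩
        left_inv := fun g => rfl
        right_inv := fun g => rfl }
  have hcls := card_class_mul (⟨z, hzK⟩ : K)
  rw [hcK] at hcls
  -- `K ∩ N = (M ∩ K) C`
  have hKN : Nat.card {g : K // (g : G) ∈ NN M} = Nat.card ↥(M ⊓ K) * Nat.card ↥(CN M z) := by
    rw [← Nat.card_prod]
    refine (Nat.card_congr (Equiv.ofBijective (fun p : ↥(M ⊓ K) × ↥(CN M z) =>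
      (⟨⟨(p.1 : G) * p.2, mul_mem p.1.2.2 (hCK _ p.2.2)⟩,
        mul_mem (le_N p.1.2.1) (mem_C_iff.1 p.2.2).1⟩ : {g : K // (g : G) ∈ NN M})) ⟨?_, ?_⟩)).symm
    · rintro ⟨a, k⟩ ⟨b, k'⟩ e
      obtain ⟨e1, e2⟩ := hS.factor_unique a.2.1 b.2.1 k.2 k'.2
        (congrArg Subtype.val (congrArg Subtype.val e))
      exact Prod.ext (Subtype.ext e1) (Subtype.ext e2)
    · rintro ⟨⟨g, hgK⟩, hgN⟩
      obtain ⟨m, hm, k, hk, rfl⟩ := hS.N_decomp hgN
      exact ⟨(⟨m, hm, (Subgroup.mul_mem_cancel_right _ (hCK k hk)).1 hgK⟩, ⟨k, hk⟩), rfl⟩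
  have hout : Nat.card {g : K // (g : G) ∉ NN M} =
      Nat.card {t : K // t * t = 1 ∧ (t : G) ∉ NN M} * Nat.card ↥(M ⊓ K) := by
    rw [← Nat.card_prod]
    refine (Nat.card_congr (Equiv.ofBijective
      (fun p : {t : K // t * t = 1 ∧ (t : G) ∉ NN M} × ↥(M ⊓ K) =>
        (⟨p.1.1 * ⟨p.2, p.2.2.2⟩, fun e => p.1.2.2 (hS.mem_N_of_mul p.2.2.1 e)⟩ :
          {g : K // (g : G) ∉ NN M})) ⟨?_, ?_⟩)).symm
    · rintro ⟨t, a⟩ ⟨t', b⟩ e
      have e' : (t.1 : G) * a = (t'.1 : G) * b := congrArg Subtype.val (congrArg Subtype.val e)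
      have e1 : (t'.1 : G) = (t.1 : G) * ((a : G) * (b : G)⁻¹) := by
        rw [← mul_assoc, e', mul_inv_cancel_right]
      have h1 : (1 : G) = (a : G) * (b : G)⁻¹ := hS.coset_unique t.2.2 (one_mem M)
        (mul_mem a.2.1 (inv_mem b.2.1))
        (by rw [mul_one]; exact congrArg Subtype.val t.2.1)
        (by rw [← e1]; exact congrArg Subtype.val t'.2.1)
      rw [← h1, mul_one] at e1
      exact Prod.ext (Subtype.ext (Subtype.ext e1.symm)) (Subtype.ext (mul_inv_eq_one.1 h1.symm))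
    · rintro ⟨⟨g, hgK⟩, hgN⟩
      change g ∉ NN M at hgN
      obtain ⟨m, hm, e⟩ := hS.coset_exists hgN
      have hmh : h * m * h⁻¹ = m := by
        refine (hS.coset_unique hgN hm (conj_mem (mem_C_iff.1 hh).1 hm) e ?_).symm
        have hg : g * h = h * g := (hmK g).1 hgK
        calc g * (h * m * h⁻¹) * (g * (h * m * h⁻¹))
            = (g * h) * m * h⁻¹ * (g * h) * m * h⁻¹ := by group
          _ = h * (g * m * (g * m)) * h⁻¹ := by rw [hg]; group
          _ = 1 := by rw [e]; group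
      have hmK' : m ∈ K := (hmK m).2 (mul_inv_eq_iff_eq_mul.1 hmh).symm
      refine ⟨(⟨⟨g * m, mul_mem hgK hmK'⟩, Subtype.ext e, fun e' => hgN (hS.mem_N_of_mul hm e')⟩,
        ⟨m⁻¹, M.inv_mem hm, K.inv_mem hmK'⟩), Subtype.ext (Subtype.ext ?_)⟩
      show g * m * m⁻¹ = g
      group
  have hin : Nat.card {t : K // t * t = 1 ∧ (t : G) ∉ NN M} + Nat.card ↥(M ⊓ K) =
      Nat.card {t : K // IsConj (⟨z, hzK⟩ : K) t} := by
    rw [← Nat.card_sum]
    refine Nat.card_congr (Equiv.ofBijective (fun s : {t : K // t * t = 1 ∧ (t : G) ∉ NN M} ⊕ ↥(M ⊓ K) =>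
      Sum.elim (fun t => (⟨t.1, hconj t.1 (orderOf_two_iff.2 ⟨t.2.1, fun e => t.2.2 (by
          rw [e]; exact one_mem _)⟩)⟩ : {t : K // IsConj (⟨z, hzK⟩ : K) t}))
        (fun a : ↥(M ⊓ K) => ⟨⟨(a : G) * z, mul_mem a.2.2 hzK⟩, hconj _ (orderOf_two_iff.2
          ⟨Subtype.ext (hS.az_sq a.2.1), fun e => hS.az_ne a.2.1 (congrArg Subtype.val e)⟩)⟩) s)
      ⟨?_, ?_⟩)
    · rintro (t | a) (t' | b) e <;> simp only [Sum.elim_inl, Sum.elim_inr, Subtype.mk.injEq] at e
      · exact congrArg Sum.inl (Subtype.ext e)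
      · exact absurd (by rw [e]; exact mul_mem (le_N b.2.1) hS.zN) t.2.2
      · exact absurd (by rw [← e]; exact mul_mem (le_N a.2.1) hS.zN) t'.2.2
      · exact congrArg Sum.inr (Subtype.ext (mul_right_cancel e))
    · rintro ⟨t, ht⟩
      obtain ⟨g, hg⟩ := isConj_iff.1 ht
      obtain ⟨h2', h1'⟩ := orderOf_two_iff.1
        (show orderOf t = 2 by rw [← hg, orderOf_conj, hordz])
      by_cases htN : (t : G) ∈ NN M
      · obtain ⟨a, ha, e⟩ := hS.invol_N htN (congrArg Subtype.val h2')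
          fun e => h1' (Subtype.ext e)
        have haK : a ∈ K := (Subgroup.mul_mem_cancel_right _ hzK).1 (e ▸ t.2)
        exact ⟨Sum.inr ⟨a, ha, haK⟩, Subtype.ext (Subtype.ext e.symm)⟩
      · exact ⟨Sum.inl ⟨t, h2', htN⟩, rfl⟩
  have hKcard : Nat.card K = Nat.card {g : K // (g : G) ∈ NN M} +
      Nat.card {g : K // (g : G) ∉ NN M} := by
    rw [← Nat.card_sum, Nat.card_congr (Equiv.sumCompl (fun g : K => (g : G) ∈ NN M))]
  rw [hKN, hout] at hKcard
  rw [← hin] at hcls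
  set c := Nat.card ↥(CN M z)
  set q0 := Nat.card ↥(M ⊓ K)
  set J := Nat.card {t : K // t * t = 1 ∧ (t : G) ∉ NN M}
  have hodd0 : Odd q0 := hS.odd_M.of_dvd_nat (Subgroup.card_dvd_of_le inf_le_left)
  have heven : 2 ∣ c := by
    have := Subgroup.orderOf_dvd_natCard _ hS.z_mem_C
    rwa [hS.ord] at this
  have hne' : q0 ≠ c := fun e => hodd0.not_two_dvd_nat (e ▸ heven)
  have hJ : J = 0 := by
    by_contra hJ
    have h3 : J * c = J * q0 := by
      have : (J + q0) * c = q0 * c + J * q0 := by rw [hcls, hKcard]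
      rw [Nat.add_mul] at this; omega
    exact hne' (Nat.eq_of_mul_eq_mul_left (Nat.pos_of_ne_zero hJ) h3).symm
  rw [hJ, zero_mul] at hout
  have hle : ∀ g ∈ K, g ∈ NN M := fun g hg => by_contra fun hgN => by
    haveI : Nonempty {g : K // (g : G) ∉ NN M} := ⟨⟨⟨g, hg⟩, hgN⟩⟩
    have h0 : 0 < Nat.card {g : K // (g : G) ∉ NN M} := Nat.card_pos
    omega
  -- so `u` normalizes `M`
  have hu2 := hS.sq_of_cent hu huz
  have hui : u⁻¹ = u := inv_eq_of_mul_eq_one_right hu2
  have hyK : u * x * u ∈ K := by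
    rw [hmK]
    have e1 := hS.inverts_C hu huz (inv_mem hh)
    rw [inv_inv] at e1
    have hc' : x * h⁻¹ = h⁻¹ * x := (eq_inv_mul_iff_mul_eq).2 (by rw [← mul_assoc, hc, mul_inv_cancel_right])
    calc u * x * u * h = u * x * u * (u * h⁻¹ * u) := by rw [e1]
      _ = u * x * (u * u) * h⁻¹ * u := by group
      _ = u * (x * h⁻¹) * u := by rw [hu2]; group
      _ = u * h⁻¹ * (u * u) * x * u := by rw [hc', hu2]; group
      _ = (u * h⁻¹ * u) * (u * x * u) := by group
      _ = h * (u * x * u) := by rw [e1]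
  obtain ⟨m, hm, k, hk, e⟩ := hS.N_decomp (hle _ hyK)
  have hy : z * (u * x * u) * z = (u * x * u)⁻¹ := by
    calc z * (u * x * u) * z = (z * u) * x * (u * z) := by group
      _ = u * (z * x * z) * u := by rw [← huz, huz]; nth_rewrite 1 [← huz]; group
      _ = _ := by rw [hS.z_invert hx, mul_inv_rev, mul_inv_rev, hui, mul_assoc]
  have hkN := (mem_C_iff.1 hk).1
  have hkk : k = k⁻¹ := by
    have e3 : m⁻¹ * k = k⁻¹ * m⁻¹ * k * k⁻¹ := by
      calc m⁻¹ * k = (z * m * z) * k := by rw [hS.z_invert hm]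
        _ = z * m * (k * z) := by rw [(mem_C_iff.1 hk).2]; group
        _ = z * (u * x * u) * z := by rw [e]; group
        _ = (m * k)⁻¹ := by rw [hy, e]
        _ = _ := by group
    refine (hS.factor_unique (inv_mem hm) ?_ hk (inv_mem hk) e3).2
    have := conj_mem (inv_mem hkN) (inv_mem hm)
    rwa [inv_inv] at this
  rcases hS.C_sq_cases hk (by nth_rewrite 2 [hkk]; rw [mul_inv_cancel]) with e' | e'
  · rw [e', mul_one] at e
    refine hu (hS.ti u x hx hx1 ?_)
    rw [hui, e]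
    exact hm
  · rw [e'] at e
    refine hx1 (hS.sq_eq_one_mem hx ?_)
    have e4 : u * x * u * (u * x * u) = 1 := by rw [e]; exact hS.az_sq hm
    calc x * x = u * (u * x * u * (u * x * u)) * u := by
          calc x * x = (u * u) * x * (u * u) * x * (u * u) := by rw [hu2]; group
            _ = _ := by group
      _ = 1 := by rw [e4, mul_one, hu2]

/-- an element of `N ∖ M` is conjugate under `M` to one of `C` -/
theorem conj_to_C {m h : G} (hm : m ∈ M) (hh : h ∈ CN M z) (h1 : h ≠ 1) :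
    ∃ a ∈ M, a * h * a⁻¹ = m * h := by
  have hN := (mem_C_iff.1 hh).1
  have hinj : Function.Injective (fun a : M => (⟨(a : G) * h * (a : G)⁻¹ * h⁻¹, by
      have := mul_mem a.2 (conj_mem hN (inv_mem a.2))
      simpa only [← mul_assoc] using this⟩ : M)) := by
    intro a b e
    have e' : (a : G) * h * (a : G)⁻¹ * h⁻¹ = (b : G) * h * (b : G)⁻¹ * h⁻¹ :=
      congrArg Subtype.val e
    by_contra hab
    refine h1 (hS.semiregular hh (mul_mem (inv_mem b.2) a.2)
      (fun e => hab (Subtype.ext (inv_mul_eq_one.1 e).symm)) ?_)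
    calc h * ((b : G)⁻¹ * a) = (b : G)⁻¹ * ((b : G) * h * (b : G)⁻¹ * h⁻¹) * h * a := by group
      _ = _ := by rw [← e']; group
  obtain ⟨a, ha⟩ := Finite.surjective_of_injective hinj ⟨m, hm⟩
  refine ⟨a, a.2, ?_⟩
  have : (a : G) * h * (a : G)⁻¹ * h⁻¹ = m := congrArg Subtype.val ha
  rw [← this]; group

/-- `M` meets the conjugates of `N` trivially -/
theorem M_inf_conj_N {g x : G} (hg : g ∉ NN M) (hx : x ∈ M) (hxN : g⁻¹ * x * g ∈ NN M) : x = 1 := by
  by_contra hx1
  obtain ⟨m, hm, h, hh, e⟩ := hS.N_decomp hxN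
  rcases eq_or_ne h 1 with rfl | h1
  · rw [mul_one] at e
    refine hg ?_
    rw [← inv_mem_iff]
    refine hS.ti g⁻¹ x hx hx1 ?_
    rw [inv_inv, e]; exact hm
  · obtain ⟨a, ha, e2⟩ := hS.conj_to_C hm hh h1
    rw [← e] at e2
    have hhz := (mem_C_iff.1 hh).2
    have : g * a * z * (g * a)⁻¹ = 1 := by
      refine hS.no_invol hx hx1 ?_ ?_
      · calc g * a * z * (g * a)⁻¹ * (g * a * z * (g * a)⁻¹)
            = g * a * (z * z) * (g * a)⁻¹ := by group
          _ = 1 := by rw [hS.zz]; group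
      · have hx' : x = g * a * h * (g * a)⁻¹ := by
          calc x = g * (g⁻¹ * x * g) * g⁻¹ := by group
            _ = g * (a * h * a⁻¹) * g⁻¹ := by rw [e2]
            _ = _ := by group
        rw [hx']
        calc g * a * z * (g * a)⁻¹ * (g * a * h * (g * a)⁻¹)
            = g * a * (z * h) * (g * a)⁻¹ := by group
          _ = g * a * (h * z) * (g * a)⁻¹ := by rw [hhz]
          _ = _ := by group
    rw [conj_eq_one_iff] at this
    exact ne_one hS.ord this

/-- two elements of `N ∩ N^t` with the same component in `C` are equal -/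
theorem eq_of_D {g e e' m m' h : G} (hg : g ∉ NN M) (hm : m ∈ M) (hm' : m' ∈ M) (hh : h ∈ CN M z)
    (he : g⁻¹ * e * g ∈ NN M) (he' : g⁻¹ * e' * g ∈ NN M) (e1 : e = m * h) (e2 : e' = m' * h) :
    e = e' := by
  have h1 := hS.M_inf_conj_N hg (mul_mem hm (inv_mem hm')) (by
    have := mul_mem he (inv_mem he')
    rwa [e1, e2, show g⁻¹ * (m * h) * g * (g⁻¹ * (m' * h) * g)⁻¹ = g⁻¹ * (m * m'⁻¹) * g by group]
      at this)
  rw [e1, e2, mul_inv_eq_one.1 h1]

/-- every involution outside `N` is uniquely `M`-conjugate into `C(z)` -/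
theorem exists_to_cent {t : G} (ht : t * t = 1) (htN : t ∉ NN M) :
    ∃ a ∈ M, a⁻¹ * t * a * z = z * (a⁻¹ * t * a) := by
  have hti : t⁻¹ = t := inv_eq_of_mul_eq_one_right ht
  obtain ⟨hzN, -⟩ := mem_C_iff.1 hS.z_mem_C
  have htz : t * z ∉ NN M := fun e => htN ((Subgroup.mul_mem_cancel_right _ hzN).1 e)
  obtain ⟨m, hm, e⟩ := hS.coset_exists htz
  set d := z * m with hd
  have hd2 : d * d = 1 := by
    calc d * d = (z * m * z) * m := by rw [hd]; group
      _ = 1 := by rw [hS.z_invert hm, inv_mul_cancel]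
  have hdc : t * d * t = d := by
    calc t * d * t = t * z * m * (t * z * m) * d⁻¹ := by rw [hd]; group
      _ = d := by rw [e, one_mul, inv_eq_of_mul_eq_one_right hd2]
  obtain ⟨a, ha, ha2⟩ := hS.exists_sqrt (inv_mem hm)
  refine ⟨a, ha, ?_⟩
  have hdz : d = a * z * a⁻¹ := by
    rw [hS.conj_z ha, ha2, hd, ← hS.z_invert hm]
    calc z * m = z * m * (z * z) := by rw [hS.zz, mul_one]
      _ = _ := by group
  rw [hdz] at hdc
  calc a⁻¹ * t * a * z = a⁻¹ * (t * (a * z * a⁻¹) * t) * t * a := by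
        calc a⁻¹ * t * a * z = a⁻¹ * t * (a * z * a⁻¹) * (t * t) * a := by rw [ht]; group
          _ = _ := by group
    _ = z * (a⁻¹ * t * a) := by rw [hdc]; group

theorem card_out :
    Nat.card {t : G // t * t = 1 ∧ t ∉ NN M} =
      Nat.card M * Nat.card {v : G // v * z = z * v ∧ v ∉ NN M} := by
  rw [← Nat.card_prod]
  refine (Nat.card_congr (Equiv.ofBijective
    (fun p : M × {v : G // v * z = z * v ∧ v ∉ NN M} =>
      (⟨(p.1 : G) * p.2 * (p.1 : G)⁻¹, by
        calc (p.1 : G) * p.2 * (p.1 : G)⁻¹ * ((p.1 : G) * p.2 * (p.1 : G)⁻¹)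
            = (p.1 : G) * ((p.2 : G) * p.2) * (p.1 : G)⁻¹ := by group
          _ = 1 := by rw [hS.sq_of_cent p.2.2.2 p.2.2.1]; group,
        fun h => p.2.2.2 ((Subgroup.mul_mem_cancel_left _ (le_N p.1.2)).1
          ((Subgroup.mul_mem_cancel_right _ (inv_mem (le_N p.1.2))).1 h))⟩ :
        {t : G // t * t = 1 ∧ t ∉ NN M})) ⟨?_, ?_⟩)).symm
  · rintro ⟨a, v⟩ ⟨b, w⟩ e
    have e' : (a : G) * v * (a : G)⁻¹ = (b : G) * w * (b : G)⁻¹ := congrArg Subtype.val e
    set t := (a : G) * v * (a : G)⁻¹ with htdef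
    have htN : t ∉ NN M := fun h => v.2.2 ((Subgroup.mul_mem_cancel_left _ (le_N a.2)).1
      ((Subgroup.mul_mem_cancel_right _ (inv_mem (le_N a.2))).1 h))
    have hz' : ∀ (a' v' : G), a' ∈ M → v' * z = z * v' → t = a' * v' * a'⁻¹ →
        t⁻¹ * (a' * a' * z) * t ∈ NN M := by
      intro a' v' ha' hv' ht'
      rw [← hS.conj_z ha', ht',
        show (a' * v' * a'⁻¹)⁻¹ * (a' * z * a'⁻¹) * (a' * v' * a'⁻¹) =
          a' * (v'⁻¹ * (z * v')) * a'⁻¹ by group, ← hv', inv_mul_cancel_left]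
      exact mul_mem (mul_mem (le_N ha') hS.zN) (inv_mem (le_N ha'))
    have h1 := hS.eq_of_D htN (mul_mem a.2 a.2) (mul_mem b.2 b.2) hS.z_mem_C
      (hz' a v a.2 v.2.1 htdef) (hz' b w b.2 w.2.1 e') rfl rfl
    have h2 : (a : G) * a = b * b := mul_right_cancel h1
    have hab : (a : G) = b := by
      refine (mul_inv_eq_one.1 (hS.sq_eq_one_mem (mul_mem a.2 (inv_mem b.2)) ?_))
      calc (a : G) * (b : G)⁻¹ * ((a : G) * (b : G)⁻¹)
          = (a : G) * ((b : G)⁻¹ * a) * (b : G)⁻¹ := by group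
        _ = (a : G) * ((a : G) * (b : G)⁻¹) * (b : G)⁻¹ := by rw [hS.comm (inv_mem b.2) a.2]
        _ = ((a : G) * a) * ((b : G) * b)⁻¹ := by group
        _ = 1 := by rw [h2, mul_inv_cancel]
    refine Prod.ext (Subtype.ext hab) (Subtype.ext ?_)
    rw [htdef, hab] at e'
    exact mul_left_cancel (mul_right_cancel e')
  · rintro ⟨t, ht, htN⟩
    obtain ⟨a, ha, e⟩ := hS.exists_to_cent ht htN
    refine ⟨(⟨a, ha⟩, ⟨a⁻¹ * t * a, e, fun h => htN ?_⟩), Subtype.ext ?_⟩
    · exact (Subgroup.mul_mem_cancel_left _ (inv_mem (le_N ha))).1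
        ((Subgroup.mul_mem_cancel_right _ (le_N ha)).1 h)
    · show a * (a⁻¹ * t * a) * a⁻¹ = t
      group

theorem card_cent :
    Nat.card ↥(Subgroup.centralizer ({z} : Set G)) =
      Nat.card ↥(CN M z) + Nat.card {v : G // v * z = z * v ∧ v ∉ NN M} := by
  classical
  rw [← Nat.card_sum]
  refine (Nat.card_congr (Equiv.ofBijective
    (fun s : ↥(CN M z) ⊕ {v : G // v * z = z * v ∧ v ∉ NN M} =>
      Sum.elim (fun h : ↥(CN M z) => (⟨h, (Subgroup.mem_inf.1 h.2).2⟩ :
        ↥(Subgroup.centralizer ({z} : Set G))))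
        (fun v : {v : G // v * z = z * v ∧ v ∉ NN M} => ⟨v, Subgroup.mem_centralizer_singleton_iff.2 v.2.1⟩) s) ⟨?_, ?_⟩)).symm
  · rintro (a | v) (b | w) e <;> simp only [Sum.elim_inl, Sum.elim_inr, Subtype.mk.injEq] at e
    · exact congrArg Sum.inl (Subtype.ext e)
    · exact absurd (e ▸ (mem_C_iff.1 a.2).1) w.2.2
    · exact absurd (e.symm ▸ (mem_C_iff.1 b.2).1) v.2.2
    · exact congrArg Sum.inr (Subtype.ext e)
  · rintro ⟨g, hg⟩
    by_cases hgN : g ∈ NN M
    · exact ⟨Sum.inl ⟨g, hgN, hg⟩, rfl⟩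
    · exact ⟨Sum.inr ⟨g, Subgroup.mem_centralizer_singleton_iff.1 hg, hgN⟩, rfl⟩

theorem card_group :
    Nat.card G = Nat.card M * (Nat.card ↥(CN M z) +
      Nat.card M * Nat.card {v : G // v * z = z * v ∧ v ∉ NN M}) := by
  classical
  rw [← Nat.card_congr (Equiv.sumCompl (fun g : G => g ∈ NN M)), Nat.card_sum, hS.card_N,
    hS.coset_exists_aux.1, hS.card_out]
  ring

theorem card_invol' : Nat.card {g : G // orderOf g = 2} =
    Nat.card M * (1 + Nat.card {v : G // v * z = z * v ∧ v ∉ NN M}) := by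
  rw [hS.card_invol, hS.card_out]; ring

theorem C_dvd : Nat.card ↥(CN M z) ∣ Nat.card M - 1 := by
  classical
  letI act : MulAction ↥(CN M z) {x : M // x ≠ 1} :=
    { smul := fun h x => ⟨⟨(h : G) * (x.1 : G) * (h : G)⁻¹, conj_mem (mem_C_iff.1 h.2).1 x.1.2⟩,
        fun e => x.2 (Subtype.ext (conj_eq_one_iff.1 (congrArg Subtype.val e)))⟩
      one_smul := fun x => Subtype.ext (Subtype.ext (show (1 : G) * x.1 * (1 : G)⁻¹ = x.1 by group))
      mul_smul := fun a b x => Subtype.ext (Subtype.ext (show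
        ((a : G) * b) * x.1 * ((a : G) * b)⁻¹ = (a : G) * ((b : G) * x.1 * (b : G)⁻¹) * (a : G)⁻¹
          by group)) }
  have h := card_dvd_of_free (H := ↥(CN M z)) (X := {x : M // x ≠ 1}) fun h x e => by
    refine Subtype.ext (hS.semiregular h.2 x.1.2 (fun e' => x.2 (Subtype.ext e')) ?_)
    exact mul_inv_eq_iff_eq_mul.1 (congrArg (fun y : {x : M // x ≠ 1} => (y.1 : G)) e)
  haveI := Fintype.ofFinite M
  have hcard : Nat.card {x : M // x ≠ 1} = Nat.card M - 1 := by
    rw [Nat.card_eq_fintype_card, Fintype.card_subtype_compl, Fintype.card_subtype_eq,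
      ← Nat.card_eq_fintype_card]
  rwa [hcard] at h

/-- `C` has two elements, or `C(z) = C ⟨u⟩` -/
theorem U_cases :
    Nat.card ↥(CN M z) = 2 ∨
      Nat.card {v : G // v * z = z * v ∧ v ∉ NN M} = Nat.card ↥(CN M z) := by
  classical
  by_cases hex : ∃ h ∈ CN M z, h * h ≠ 1
  · right
    obtain ⟨h, hh, hne⟩ := hex
    obtain ⟨u, hu, huz⟩ := hS.exists_swap
    have hu2 := hS.sq_of_cent hu huz
    refine Nat.card_congr (Equiv.ofBijective
      (fun v : {v : G // v * z = z * v ∧ v ∉ NN M} => (⟨u * v, ?_⟩ : ↥(CN M z))) ⟨?_, ?_⟩)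
    · have hvz : u * v * z = z * (u * v) := by rw [mul_assoc, v.2.1, ← mul_assoc, huz, mul_assoc]
      refine mem_C_iff.2 ⟨by_contra fun hN => hne (hS.sq_of_commute hN hvz hh ?_), hvz⟩
      have e1 := hS.inverts_C v.2.2 v.2.1 hh
      have e2 := hS.inverts_C hu huz hh
      have hv2 := hS.sq_of_cent v.2.2 v.2.1
      calc u * (v : G) * h = u * ((v : G) * h * v) * ((v : G) * v) * (v : G)⁻¹ := by rw [hv2]; group
        _ = u * h⁻¹ * (v : G) := by rw [e1, hv2, mul_one, inv_eq_of_mul_eq_one_right hv2]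
        _ = u * (u * h * u) * v := by rw [e2]
        _ = h * (u * v) := by rw [← mul_assoc, ← mul_assoc, hu2]; group
    · intro a b e
      exact Subtype.ext (mul_left_cancel (congrArg Subtype.val e))
    · rintro ⟨k, hk⟩
      obtain ⟨hkN, hkz⟩ := mem_C_iff.1 hk
      refine ⟨⟨u * k, by rw [mul_assoc, hkz, ← mul_assoc, huz, mul_assoc],
        fun e => hu ((Subgroup.mul_mem_cancel_right _ hkN).1 e)⟩, Subtype.ext ?_⟩
      show u * (u * k) = k
      rw [← mul_assoc, hu2, one_mul]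
  · left
    push Not at hex
    refine (Nat.card_congr (Equiv.ofBijective (fun b : Bool =>
      (⟨if b then z else 1, by split_ifs; exacts [hS.z_mem_C, one_mem _]⟩ : ↥(CN M z)))
      ⟨?_, ?_⟩)).symm.trans (by simp)
    · intro a b e
      have e' : (if a then z else (1 : G)) = if b then z else 1 := congrArg Subtype.val e
      cases a <;> cases b <;> simp [ne_one hS.ord, Ne.symm (ne_one hS.ord)] at e' ⊢
    · rintro ⟨k, hk⟩
      rcases hS.C_sq_cases hk (hex k hk) with rfl | rfl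
      · exact ⟨false, rfl⟩
      · exact ⟨true, rfl⟩

end Setup

end Cfsg.Agent.Involutions.TICount
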