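import Cfsg.Agent.Lib.Involutions.TICount.Structure
import Cfsg.Agent.Lib.Involutions.TICount.One

/-!
# `C = ⟨z⟩`: the fixed points of the conjugates of `z` form a linear space
-/

set_option autoImplicit false

namespace Cfsg.Agent.Involutions.TICount

open Involutions.Basic MulAction

variable {G : Type*} [Group G] {M : Subgroup G} {z : G}

/-- the centralizer of `z` -/
abbrev VV (z : G) : Subgroup G := Subgroup.centralizer ({z} : Set G)

theorem mem_VV {z g : G} : g ∈ VV z ↔ g * z = z * g := Subgroup.mem_centralizer_singleton_iff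

namespace Setup

variable (hS : Setup M z) [Finite G] (hc : Nat.card ↥(CN M z) = 2)
include hS hc

theorem mem_C_cases {h : G} (hh : h ∈ CN M z) : h = 1 ∨ h = z := by
  refine hS.C_sq_cases hh ?_
  have h2 := pow_card_eq_one' (x := (⟨h, hh⟩ : ↥(CN M z)))
  rw [hc, pow_two] at h2
  exact congrArg Subtype.val h2

theorem V_sq {g : G} (hg : g ∈ VV z) : g * g = 1 := by
  by_cases hN : g ∈ NN M
  · rcases hS.mem_C_cases hc (mem_C_iff.2 ⟨hN, mem_VV.1 hg⟩) with rfl | rfl
    · exact one_mul 1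
    · exact hS.zz
  · exact hS.sq_of_cent hN (mem_VV.1 hg)

theorem V_comm {g h : G} (hg : g ∈ VV z) (hh : h ∈ VV z) : g * h = h * g := by
  have e := hS.V_sq hc (mul_mem hg hh)
  calc g * h = (g * h)⁻¹ := (inv_eq_of_mul_eq_one_right e).symm
    _ = h⁻¹ * g⁻¹ := mul_inv_rev g h
    _ = h * g := by rw [inv_eq_of_mul_eq_one_right (hS.V_sq hc hg),
        inv_eq_of_mul_eq_one_right (hS.V_sq hc hh)]

theorem cent_conj {w : G} (hw : IsConj z w) (hwV : w ∈ VV z) : VV w = VV z := by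
  obtain ⟨g, hg⟩ := isConj_iff.1 hw
  refine (Subgroup.eq_of_le_of_card_ge (fun x hx => mem_VV.2 (hS.V_comm hc hx hwV)) ?_).symm
  refine Nat.card_le_card_of_injective
    (fun x : ↥(VV w) => (⟨g⁻¹ * x * g, mem_VV.2 ?_⟩ : ↥(VV z))) ?_
  · have e : (x : G) * (g * z * g⁻¹) = g * z * g⁻¹ * x := by rw [hg]; exact mem_VV.1 x.2
    calc g⁻¹ * x * g * z = g⁻¹ * ((x : G) * (g * z * g⁻¹)) * g := by group
      _ = g⁻¹ * (g * z * g⁻¹ * x) * g := by rw [e]
      _ = z * (g⁻¹ * x * g) := by group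
  · intro a b e
    exact Subtype.ext (mul_left_cancel (mul_right_cancel (congrArg Subtype.val e)))

theorem V_card :
    Nat.card ↥(VV z) = 2 + Nat.card {v : G // v * z = z * v ∧ v ∉ NN M} := by
  rw [hS.card_cent, hc]

theorem V_two_pow : ∃ e : ℕ, Nat.card ↥(VV z) = 2 ^ e := by
  haveI : Fact (Nat.Prime 2) := ⟨Nat.prime_two⟩
  exact IsPGroup.iff_card.1 fun x => ⟨1, Subtype.ext (by
    rw [pow_one, Subgroup.coe_pow, pow_two, Subgroup.coe_one]; exact hS.V_sq hc x.2)⟩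

/-- commuting conjugates of `z` fixing a point are equal -/
theorem eq_of_fix {g w w' : G} (hw : IsConj z w) (hw' : IsConj z w') (hcm : w * w' = w' * w)
    (h1 : g⁻¹ * w * g ∈ NN M) (h2 : g⁻¹ * w' * g ∈ NN M) : w = w' := by
  have key : ∀ v, IsConj z v → g⁻¹ * v * g ∈ NN M → ∃ a ∈ M, g⁻¹ * v * g = a * z := by
    intro v hv hvN
    obtain ⟨x, hx⟩ := isConj_iff.1 hv
    refine hS.invol_N hvN ?_ ?_
    · rw [← hx]
      calc g⁻¹ * (x * z * x⁻¹) * g * (g⁻¹ * (x * z * x⁻¹) * g)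
          = g⁻¹ * x * (z * z) * x⁻¹ * g := by group
        _ = 1 := by rw [hS.zz]; group
    · intro e
      rw [← hx, show g⁻¹ * (x * z * x⁻¹) * g = (g⁻¹ * x) * z * (g⁻¹ * x)⁻¹ by group,
        conj_eq_one_iff] at e
      exact ne_one hS.ord e
  obtain ⟨a, ha, ea⟩ := key w hw h1
  obtain ⟨b, hb, eb⟩ := key w' hw' h2
  have e : a * z * (b * z) = b * z * (a * z) := by
    rw [← ea, ← eb]
    calc g⁻¹ * w * g * (g⁻¹ * w' * g) = g⁻¹ * (w * w') * g := by group
      _ = g⁻¹ * (w' * w) * g := by rw [hcm]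
      _ = _ := by group
  have e' : a * b⁻¹ = b * a⁻¹ := by
    calc a * b⁻¹ = a * (z * b * z) := by rw [hS.z_invert hb]
      _ = a * z * (b * z) := by group
      _ = b * z * (a * z) := e
      _ = b * (z * a * z) := by group
      _ = b * a⁻¹ := by rw [hS.z_invert ha]
  have hab : a = b := by
    refine mul_inv_eq_one.1 (hS.sq_eq_one_mem (mul_mem ha (inv_mem hb)) ?_)
    nth_rewrite 1 [e']
    group
  have h3 : g⁻¹ * w * g = g⁻¹ * w' * g := by rw [ea, eb, hab]
  exact mul_left_cancel (mul_right_cancel h3)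

/-- a conjugate of `z` fixing two points is unique -/
theorem eq_of_fix_two {g g' w w' : G} (hne : (g : G ⧸ NN M) ≠ (g' : G ⧸ NN M))
    (hw : IsConj z w) (hw' : IsConj z w')
    (h1 : g⁻¹ * w * g ∈ NN M) (h2 : g⁻¹ * w' * g ∈ NN M)
    (h1' : g'⁻¹ * w * g' ∈ NN M) (h2' : g'⁻¹ * w' * g' ∈ NN M) : w = w' := by
  have key : ∀ v, IsConj z v → g⁻¹ * v * g ∈ NN M → ∃ a ∈ M, g⁻¹ * v * g = a * z := by
    intro v hv hvN
    obtain ⟨x, hx⟩ := isConj_iff.1 hv
    refine hS.invol_N hvN ?_ ?_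
    · rw [← hx]
      calc g⁻¹ * (x * z * x⁻¹) * g * (g⁻¹ * (x * z * x⁻¹) * g)
          = g⁻¹ * x * (z * z) * x⁻¹ * g := by group
        _ = 1 := by rw [hS.zz]; group
    · intro e
      rw [← hx, show g⁻¹ * (x * z * x⁻¹) * g = (g⁻¹ * x) * z * (g⁻¹ * x)⁻¹ by group,
        conj_eq_one_iff] at e
      exact ne_one hS.ord e
  obtain ⟨a, ha, ea⟩ := key w hw h1
  obtain ⟨b, hb, eb⟩ := key w' hw' h2
  have hg' : g⁻¹ * g' ∉ NN M := fun h => hne (QuotientGroup.eq.2 h)
  have := hS.eq_of_D (g := g⁻¹ * g') (e := g⁻¹ * w * g) (e' := g⁻¹ * w' * g) hg' ha hb hS.z_mem_C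
    (by rw [show (g⁻¹ * g')⁻¹ * (g⁻¹ * w * g) * (g⁻¹ * g') = g'⁻¹ * w * g' by group]; exact h1')
    (by rw [show (g⁻¹ * g')⁻¹ * (g⁻¹ * w' * g) * (g⁻¹ * g') = g'⁻¹ * w' * g' by group]; exact h2')
    ea eb
  exact mul_left_cancel (mul_right_cancel this)

/-- some conjugate of `z` in `C(z)` fixes the point `g` -/
theorem exists_fix (g : G) : ∃ w : G, IsConj z w ∧ w ∈ VV z ∧ g⁻¹ * w * g ∈ NN M := by
  by_cases h : g⁻¹ * z * g ∈ NN M
  · exact ⟨z, IsConj.refl z, mem_VV.2 rfl, h⟩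
  obtain ⟨a, ha, e⟩ := hS.exists_to_cent (t := g⁻¹ * z * g)
    (by calc g⁻¹ * z * g * (g⁻¹ * z * g) = g⁻¹ * (z * z) * g := by group
          _ = 1 := by rw [hS.zz]; group) h
  refine ⟨g * a * z * (g * a)⁻¹, isConj_iff.2 ⟨g * a, rfl⟩, mem_VV.2 ?_, ?_⟩
  · calc g * a * z * (g * a)⁻¹ * z
        = g * a * (z * (a⁻¹ * (g⁻¹ * z * g) * a)) * (g * a)⁻¹ := by group
      _ = g * a * (a⁻¹ * (g⁻¹ * z * g) * a * z) * (g * a)⁻¹ := by rw [e]
      _ = z * (g * a * z * (g * a)⁻¹) := by group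
  · rw [show g⁻¹ * (g * a * z * (g * a)⁻¹) * g = a * z * a⁻¹ by group]
    exact mul_mem (mul_mem (le_N ha) hS.zN) (inv_mem (le_N ha))

/-- the fixed points of `z` -/
theorem fix_iff {g : G} : g⁻¹ * z * g ∈ NN M ↔ ∃ v ∈ VV z, (v : G ⧸ NN M) = (g : G ⧸ NN M) := by
  constructor
  · intro h
    obtain ⟨m, hm, e⟩ := hS.invol_N h
      (by calc g⁻¹ * z * g * (g⁻¹ * z * g) = g⁻¹ * (z * z) * g := by group
            _ = 1 := by rw [hS.zz]; group)
      (fun e => ne_one hS.ord (conj_eq_one_iff.1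
        (show g⁻¹ * z * g⁻¹⁻¹ = 1 by rw [inv_inv]; exact e)))
    obtain ⟨a, ha, ha2⟩ := hS.exists_sqrt hm
    rw [← ha2, ← hS.conj_z ha] at e
    refine ⟨g * a, mem_VV.2 ?_, QuotientGroup.eq.2 ?_⟩
    · calc g * a * z = g * (a * z * a⁻¹) * a := by group
        _ = g * (g⁻¹ * z * g) * a := by rw [e]
        _ = z * (g * a) := by group
    · rw [show (g * a)⁻¹ * g = a⁻¹ by group]; exact inv_mem (le_N ha)
  · rintro ⟨v, hv, e⟩
    have h : v⁻¹ * g ∈ NN M := QuotientGroup.eq.1 e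
    rw [show g⁻¹ * z * g = (v⁻¹ * g)⁻¹ * (v⁻¹ * z * v) * (v⁻¹ * g) by group,
      show v⁻¹ * z * v = z by rw [mul_assoc, ← mem_VV.1 hv, inv_mul_cancel_left]]
    exact mul_mem (mul_mem (inv_mem h) hS.zN) h

theorem card_fix : Nat.card {y : G ⧸ NN M // z • y = y} * 2 = Nat.card ↥(VV z) := by
  have horb : MulAction.orbit ↥(VV z) ((1 : G) : G ⧸ NN M) = {y | z • y = y} := by
    ext y
    induction y using QuotientGroup.induction_on with
    | _ g =>
    rw [Set.mem_setOf_eq, smul_fix_iff, hS.fix_iff hc]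
    constructor
    · rintro ⟨v, hv⟩
      refine ⟨v, v.2, ?_⟩
      have hv' : ((v : G) • ((1 : G) : G ⧸ NN M)) = (g : G ⧸ NN M) := hv
      rwa [MulAction.Quotient.smul_mk, smul_eq_mul, mul_one] at hv'
    · rintro ⟨v, hv, e⟩
      refine ⟨⟨v, hv⟩, ?_⟩
      show (v : G) • ((1 : G) : G ⧸ NN M) = (g : G ⧸ NN M)
      rw [MulAction.Quotient.smul_mk, smul_eq_mul, mul_one, e]
  have hstab : Nat.card ↥(MulAction.stabilizer ↥(VV z) ((1 : G) : G ⧸ NN M)) = 2 := by
    rw [← hc]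
    refine Nat.card_congr
      { toFun := fun v => ⟨(v : ↥(VV z)), smul_base_iff.1 v.2, (v : ↥(VV z)).2⟩
        invFun := fun h => ⟨⟨h, (Subgroup.mem_inf.1 h.2).2⟩, smul_base_iff.2 (Subgroup.mem_inf.1 h.2).1⟩
        left_inv := fun v => rfl
        right_inv := fun h => rfl }
  have h := (MulAction.stabilizer ↥(VV z) ((1 : G) : G ⧸ NN M)).index_mul_card
  rw [MulAction.index_stabilizer, horb, hstab] at h
  rw [← h, ← Nat.card_coe_set_eq]
  rfl

/-- the points are partitioned by the fixed point sets of the conjugates of `z` in `C(z)` -/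
theorem card_points :
    Nat.card (G ⧸ NN M) =
      Nat.card {w : G // IsConj z w ∧ w ∈ VV z} * Nat.card {y : G ⧸ NN M // z • y = y} := by
  classical
  have hex : ∀ y : G ⧸ NN M, ∃ w : {w : G // IsConj z w ∧ w ∈ VV z}, (w : G) • y = y := by
    intro y
    induction y using QuotientGroup.induction_on with
    | _ g =>
    obtain ⟨w, h1, h2, h3⟩ := hS.exists_fix hc g
    exact ⟨⟨w, h1, h2⟩, smul_fix_iff.2 h3⟩
  choose f hf using hex
  haveI := Fintype.ofFinite {w : G // IsConj z w ∧ w ∈ VV z}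
  rw [← Nat.card_congr (Equiv.sigmaFiberEquiv f), Nat.card_sigma,
    Finset.sum_congr rfl (g := fun _ => Nat.card {y : G ⧸ NN M // z • y = y}) fun w _ => ?_,
    Finset.sum_const, Finset.card_univ, smul_eq_mul, ← Nat.card_eq_fintype_card]
  obtain ⟨g, hg⟩ := isConj_iff.1 w.2.1
  have hfib : ∀ y : G ⧸ NN M, f y = w ↔ (w : G) • y = y := by
    intro y
    refine ⟨fun e => e ▸ hf y, fun e => ?_⟩
    induction y using QuotientGroup.induction_on with
    | _ a =>
    exact Subtype.ext (hS.eq_of_fix hc (f _).2.1 w.2.1 (hS.V_comm hc (f _).2.2 w.2.2)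
      (smul_fix_iff.1 (hf _)) (smul_fix_iff.1 e))
  refine Nat.card_congr ((Equiv.subtypeEquivRight hfib).trans
    ((MulAction.toPerm g).subtypeEquiv fun y => ?_).symm)
  show z • y = y ↔ (w : G) • (g • y) = g • y
  rw [← hg, smul_smul, show g * z * g⁻¹ * g = g * z by group, ← smul_smul, smul_left_cancel_iff]

/-- the two possibilities -/
theorem params {k : ℕ} (hk : Nat.card {v : G // v * z = z * v ∧ v ∉ NN M} = 2 * k) (h2 : 2 ≤ k) :
    (∃ d : ℕ, 1 ≤ d ∧ k + 1 = 2 ^ d) ∧ Nat.card ↥(VV z) = 2 * (k + 1) ∧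
    Nat.card {g : G // orderOf g = 2} = Nat.card M * (2 * k + 1) ∧
    Nat.card G = 2 * Nat.card M * (Nat.card {w : G // IsConj z w ∧ w ∈ VV z} * (k + 1)) ∧
    Nat.card {w : G // IsConj z w} = Nat.card M * Nat.card {w : G // IsConj z w ∧ w ∈ VV z} ∧
    ((Nat.card {w : G // IsConj z w ∧ w ∈ VV z} = k + 1 ∧ Nat.card M = k + 2) ∨
     (Nat.card {w : G // IsConj z w ∧ w ∈ VV z} = 2 * k + 1 ∧ Nat.card M = 2 * k + 3)) := by
  classical
  have hV : Nat.card ↥(VV z) = 2 * (k + 1) := by rw [hS.V_card hc, hk]; ring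
  have hfix : Nat.card {y : G ⧸ NN M // z • y = y} = k + 1 := by
    have := hS.card_fix hc
    omega
  have hX := hS.card_points hc
  rw [hfix] at hX
  have hidx := (NN M).index_mul_card
  rw [hS.card_N, hc, Subgroup.index_eq_card, hX] at hidx
  have hG : Nat.card G = 2 * Nat.card M * (Nat.card {w : G // IsConj z w ∧ w ∈ VV z} * (k + 1)) := by
    rw [← hidx]; ring
  have hG2 := hS.card_group
  rw [hc, hk] at hG2
  set q := Nat.card M with hq
  set a := Nat.card {w : G // IsConj z w ∧ w ∈ VV z} with ha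
  have hq3 : 2 < q := hc ▸ hS.C_lt
  have heq : a * (k + 1) = 1 + q * k := by
    refine Nat.eq_of_mul_eq_mul_left (show 0 < 2 * q by omega) ?_
    rw [← hG, hG2]; ring
  have hcls : Nat.card {w : G // IsConj z w} = q * a := by
    have h := card_class_mul z
    rw [show Nat.card ↥(Subgroup.centralizer ({z} : Set G)) = 2 * (k + 1) from hV, hG] at h
    refine Nat.eq_of_mul_eq_mul_right (show 0 < 2 * (k + 1) by omega) ?_
    rw [h]; ring
  have ha2 : a + 1 ≤ 2 * (k + 1) := by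
    rw [← hV]
    have : Nat.card ({w : G // IsConj z w ∧ w ∈ VV z} ⊕ PUnit.{1}) ≤ Nat.card ↥(VV z) := by
      refine Nat.card_le_card_of_injective (fun s => Sum.elim
        (fun w : {w : G // IsConj z w ∧ w ∈ VV z} => (⟨w, w.2.2⟩ : ↥(VV z))) (fun _ => 1) s) ?_
      rintro (w | _) (w' | _) e <;> simp only [Sum.elim_inl, Sum.elim_inr] at e
      · exact congrArg Sum.inl (Subtype.ext (congrArg Subtype.val e :))
      · exfalso
        obtain ⟨g, hg⟩ := isConj_iff.1 w.2.1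
        have e' : (w : G) = 1 := congrArg Subtype.val e
        rw [← hg, conj_eq_one_iff] at e'
        exact ne_one hS.ord e'
      · exfalso
        obtain ⟨g, hg⟩ := isConj_iff.1 w'.2.1
        have e' : (w' : G) = 1 := (congrArg Subtype.val e).symm
        rw [← hg, conj_eq_one_iff] at e'
        exact ne_one hS.ord e'
      · rfl
    rwa [Nat.card_sum, Nat.card_unique (α := PUnit.{1}), ← ha] at this
  obtain ⟨e, he⟩ := hS.V_two_pow hc
  refine ⟨?_, hV, ?_, hG, hcls, ?_⟩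
  · rcases e with _ | e
    · rw [pow_zero] at he; omega
    refine ⟨e, ?_, ?_⟩
    · by_contra h
      have : e = 0 := by omega
      subst this
      rw [pow_one] at he; omega
    · rw [pow_succ] at he; omega
  · rw [hS.card_invol', hk]; ring
  · -- `(a - 1) (k + 1) = k (q - 1)`
    have ha1 : 1 ≤ a := by
      rcases Nat.eq_zero_or_pos a with h | h
      · rw [h, zero_mul] at heq; omega
      · exact h
    obtain ⟨b, hb⟩ : ∃ b, a = b + 1 := ⟨a - 1, by omega⟩
    rw [hb] at heq ha2 ⊢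
    obtain ⟨r, hr⟩ : ∃ r, q = r + 1 := ⟨q - 1, by omega⟩
    rw [hr] at heq hq3 ⊢
    have h1 : b * (k + 1) = k * r := by linarith
    have hdvd : k ∣ b := (Nat.Coprime.dvd_mul_right (by simp)).1 ⟨r, h1⟩
    obtain ⟨l, rfl⟩ := hdvd
    have hr' : r = l * (k + 1) :=
      (Nat.eq_of_mul_eq_mul_left (by omega : 0 < k) (by rw [← h1]; ring)).symm
    rcases l with _ | _ | _ | l
    · omega
    · left; constructor <;> omega
    · right; constructor <;> omega
    · exfalso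
      have : k * 3 ≤ k * (l + 3) := Nat.mul_le_mul_left k (by omega)
      rw [show l + 1 + 1 + 1 = l + 3 from rfl] at ha2
      omega

end Setup

end Cfsg.Agent.Involutions.TICount
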